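import Mathlib
import Cfsg.Agent.Lib.ShortPresSL2.Core
import Cfsg.Agent.Lib.Schur.SteinbergSLn

/-!
# Short presentations of `SL₃(q)`: the abstract side

Four elements `u, h, t, c` satisfying a handful of relations generate a family of root subgroups satisfying the
Steinberg relations of type `A₂`.
-/

set_option autoImplicit false

namespace Cfsg.Agent.Lib.ShortPresSL3

open Schur.SteinbergSLn (IsSLnRel)

variable {F : Type*} [Field F] {G : Type*} [Group G]

/-- `d` scales the one-parameter family `X` by `l`. -/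
def Scal (d : G) (l : F) (X : F → G) : Prop := ∀ x, d * X x * d⁻¹ = X (l * x)

theorem Scal.mul {d d' : G} {l l' : F} {X : F → G} (h : Scal d l X) (h' : Scal d' l' X) :
    Scal (d * d') (l * l') X := fun x => by
  rw [mul_assoc l, ← h, ← h']; group

theorem Scal.inv {d : G} {l : F} {X : F → G} (hl : l ≠ 0) (h : Scal d l X) : Scal d⁻¹ l⁻¹ X := fun x => by
  conv_lhs => rw [show x = l * (l⁻¹ * x) by rw [mul_inv_cancel_left₀ hl], ← h]
  group

theorem Scal.conj {s d d' : G} {l : F} {X Y : F → G} (h : Scal d l X) (hd : d' = s * d * s⁻¹)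
    (hY : ∀ x, Y x = s * X x * s⁻¹) : Scal d' l Y := fun x => by
  rw [hY, hY, hd, ← h]; group

theorem Scal.conj_neg {s d d' : G} {l : F} {X Y : F → G} (h : Scal d l X) (hd : d' = s * d * s⁻¹)
    (hY : ∀ x, Y x = s * X (-x) * s⁻¹) : Scal d' l Y := fun x => by
  rw [hY, hY, hd, ← mul_neg, ← h]; group

/-- A relation additive in the first variable, known on a spanning set for second variable `1` and
preserved by a scaling moving the second variable cyclically, holds everywhere. -/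
theorem pair_induction (P : F → F → Prop) (hb0 : ∀ a, P a 0)
    (hadd : ∀ a a' b, P a b → P a' b → P (a + a') b)
    (lam ν : F) (hlam : lam ≠ 0) (hν : ∀ b : F, b ≠ 0 → ∃ m : ℕ, ν ^ m = b)
    (htr : ∀ a b, P a b → P (lam * a) (ν * b)) (S : Set F)
    (hS : ∀ Q : F → Prop, (∀ a a', Q a → Q a' → Q (a + a')) → (∀ s ∈ S, Q s) → ∀ x, Q x)
    (h1 : ∀ s ∈ S, P s 1) : ∀ a b, P a b := by
  intro a b
  rcases eq_or_ne b 0 with rfl | hb
  · exact hb0 a
  obtain ⟨m, rfl⟩ := hν b hb
  clear hb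
  induction m generalizing a with
  | zero => rw [pow_zero]; exact hS (fun x => P x 1) (fun _ _ => hadd _ _ _) h1 a
  | succ m ih =>
    have := htr _ _ (ih (lam⁻¹ * a))
    rwa [mul_inv_cancel_left₀ hlam, ← pow_succ'] at this

/-- In the braid group of the relation `t u t⁻¹ = u⁻¹ t u⁻¹` the square of `t` commutes with `u`. -/
theorem sq_comm_of_braid {u t : G} (hb : t * u * t⁻¹ = u⁻¹ * t * u⁻¹) : Commute (t * t) u := by
  have h1 : t * u = u⁻¹ * t * u⁻¹ * t := mul_inv_eq_iff_eq_mul.1 hb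
  have h2 : t * u⁻¹ * t = u * t * u := by
    calc t * u⁻¹ * t = u * (u⁻¹ * t * u⁻¹ * t) := by group
      _ = _ := by rw [← h1, mul_assoc]
  calc t * t * u = t * (t * u) := mul_assoc _ _ _
    _ = t * u⁻¹ * t * u⁻¹ * t := by rw [h1]; group
    _ = u * (t * t) := by rw [h2]; group

/-- The column relation follows from the row relation and the commutator relation. -/
theorem col_of_row {u v y z t : G} (ht : t = u * y * u) (huz : Commute u z) (hyv : Commute y v)
    (htv : t * v * t⁻¹ = z) (hyz : y * z * y⁻¹ * z⁻¹ = v⁻¹) (huv : u * v * u⁻¹ * v⁻¹ = z) :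
    Commute z v := by
  have h1 : u * v * u⁻¹ = z * v := by rw [← huv]; group
  have h2 : y * z * v * y⁻¹ = z := by
    calc y * z * v * y⁻¹ = u⁻¹ * ((u * y) * (z * v) * (u * y)⁻¹) * u := by group
      _ = u⁻¹ * (t * v * t⁻¹) * u := by rw [← h1, ht]; group
      _ = u⁻¹ * (u * z) := by rw [htv, huz.eq, mul_assoc]
      _ = z := inv_mul_cancel_left _ _
  have h3 : y * z * y⁻¹ = z * v⁻¹ := by
    rw [eq_mul_inv_iff_mul_eq]
    calc y * z * y⁻¹ * v = y * z * (y⁻¹ * v) := mul_assoc _ _ _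
      _ = y * z * (v * y⁻¹) := by rw [(hyv.inv_left).eq]
      _ = z := by rw [← mul_assoc]; exact h2
  rw [h3] at hyz
  have : Commute z v⁻¹ := mul_inv_eq_iff_eq_mul.1 hyz |>.trans rfl
  simpa using this.inv_right

/-- `u` commutes with its conjugates under `a` when it is a commutator of `z`, `w` suitably stabilised. -/
theorem comm_orbit {u z w a e : G} (huz : Commute u z) (huw : Commute u w)
    (hzw : z * w * z⁻¹ * w⁻¹ = u) (hea : Commute e a) (he : Commute e u) (ha : Commute a z)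
    (hae : Commute (a * e) w) : ∀ n : ℕ, Commute u (a ^ n * u * (a ^ n)⁻¹) := by
  intro n
  have hw : a ^ n * w * (a ^ n)⁻¹ = (e ^ n)⁻¹ * w * e ^ n := by
    have h0 := (hae.pow_left n).eq
    rw [hea.symm.mul_pow] at h0
    calc a ^ n * w * (a ^ n)⁻¹ = (e ^ n)⁻¹ * (e ^ n * a ^ n) * w * (a ^ n)⁻¹ := by group
      _ = (e ^ n)⁻¹ * (a ^ n * e ^ n * w) * (a ^ n)⁻¹ := by rw [(hea.pow_pow n n).eq]; group
      _ = (e ^ n)⁻¹ * w * (a ^ n * e ^ n) * (a ^ n)⁻¹ := by rw [h0]; group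
      _ = (e ^ n)⁻¹ * w * (e ^ n * a ^ n) * (a ^ n)⁻¹ := by rw [(hea.pow_pow n n).eq]
      _ = _ := by group
  have hu2 : a ^ n * u * (a ^ n)⁻¹ = z * (a ^ n * w * (a ^ n)⁻¹) * z⁻¹ * (a ^ n * w * (a ^ n)⁻¹)⁻¹ := by
    conv_lhs => rw [← hzw]
    calc a ^ n * (z * w * z⁻¹ * w⁻¹) * (a ^ n)⁻¹
        = (a ^ n * z) * w * (a ^ n * z)⁻¹ * (a ^ n * w⁻¹ * (a ^ n)⁻¹) := by group
      _ = _ := by rw [(ha.pow_left n).eq]; group
  have h3 : Commute u (a ^ n * w * (a ^ n)⁻¹) := by
    rw [hw]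
    exact (((he.pow_left n).inv_left.symm).mul_right huw).mul_right (he.pow_left n).symm
  rw [hu2]
  exact ((huz.mul_right h3).mul_right huz.inv_right).mul_right h3.inv_right

/-- Two involutions commute with the square of their product when that square is an involution. -/
theorem comm_of_dihedral {a b z : G} (ha : a * a = 1) (hb : b * b = 1) (hz : z * z = 1)
    (hab : a * b * a⁻¹ * b⁻¹ = z) : Commute a z ∧ Commute b z := by
  rw [inv_eq_of_mul_eq_one_right ha, inv_eq_of_mul_eq_one_right hb] at hab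
  have hz' : b * a * b * a = z := by
    rw [← inv_eq_of_mul_eq_one_right hz, ← hab, mul_inv_rev, mul_inv_rev, mul_inv_rev,
      inv_eq_of_mul_eq_one_right ha, inv_eq_of_mul_eq_one_right hb, ← mul_assoc, ← mul_assoc]
  constructor
  · show a * z = z * a
    nth_rewrite 1 [← hz']
    rw [← hab]
    group
  · show b * z = z * b
    nth_rewrite 1 [← hab]
    rw [← hz']
    group

/-- The relations among `h, t, c` used throughout. -/
structure Torus (h t c : G) : Prop where
  c3 : c * c * c = 1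
  tc : t * c * t * c = 1
  th : t * h * t⁻¹ = h⁻¹
  hk : Commute h (c * h * c⁻¹)
  hkg : h * (c * h * c⁻¹) * (c⁻¹ * h * c) = 1

namespace Torus

variable {h t c : G} (T : Torus h t c)

include T

theorem c_inv : c⁻¹ = c * c := inv_eq_of_mul_eq_one_right (by rw [← mul_assoc]; exact T.c3)

theorem tc' : t * c = c⁻¹ * t⁻¹ := by
  calc t * c = (t * c * t * c) * (c⁻¹ * t⁻¹) := by group
    _ = _ := by rw [T.tc, one_mul]

theorem g_eq : c⁻¹ * h * c = (h * (c * h * c⁻¹))⁻¹ := eq_inv_of_mul_eq_one_right T.hkg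

theorem hg : Commute h (c⁻¹ * h * c) := by
  rw [T.g_eq]
  exact ((Commute.refl h).mul_right T.hk).inv_right

theorem kg : Commute (c * h * c⁻¹) (c⁻¹ * h * c) := by
  rw [T.g_eq]
  exact (T.hk.symm.mul_right (Commute.refl _)).inv_right

theorem ck : c * (c * h * c⁻¹) * c⁻¹ = c⁻¹ * h * c := by
  calc c * (c * h * c⁻¹) * c⁻¹ = (c * c) * h * (c * c)⁻¹ := by group
    _ = _ := by rw [← T.c_inv]; group

theorem cg : c * (c⁻¹ * h * c) * c⁻¹ = h := by group

theorem th_inv : t⁻¹ * h * t = h⁻¹ := by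
  have := congrArg (fun x => (t⁻¹ * x * t)⁻¹) T.th
  simp only [mul_inv_rev, inv_inv] at this
  calc t⁻¹ * h * t = t⁻¹ * (h * t) := mul_assoc _ _ _
    _ = h⁻¹ := by rw [← this]; group

theorem tk : t * (c * h * c⁻¹) * t⁻¹ = (c⁻¹ * h * c)⁻¹ := by
  calc t * (c * h * c⁻¹) * t⁻¹ = (t * c) * h * (t * c)⁻¹ := by group
    _ = c⁻¹ * (t⁻¹ * h * t) * c := by rw [T.tc']; group
    _ = _ := by rw [T.th_inv]; group

theorem tg : t * (c⁻¹ * h * c) * t⁻¹ = (c * h * c⁻¹)⁻¹ := by
  rw [T.g_eq, ← conj_inv, ← conj_mul, T.th, T.tk, mul_inv_rev, inv_inv, inv_inv]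
  rw [T.g_eq, mul_inv_rev, inv_mul_cancel_right]

theorem tt_h : Commute (t * t) h := by
  show t * t * h = h * (t * t)
  calc t * t * h = t * (t * h * t⁻¹) * t⁻¹ * (t * t) := by group
    _ = _ := by rw [T.th, ← conj_inv, T.th, inv_inv]

theorem tt_k : Commute (t * t) (c * h * c⁻¹) := by
  show t * t * (c * h * c⁻¹) = c * h * c⁻¹ * (t * t)
  calc t * t * (c * h * c⁻¹) = t * (t * (c * h * c⁻¹) * t⁻¹) * t⁻¹ * (t * t) := by group
    _ = _ := by rw [T.tk, ← conj_inv, T.tg, inv_inv]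

end Torus

end Cfsg.Agent.Lib.ShortPresSL3
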