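import Mathlib
import Cfsg.Agent.Lib.ShortPresSL3.Group

/-!
# Short presentations of `SL₃(q)`: the root family

From a homomorphism `f` for the first root and the Weyl elements `t`, `c` we build all six root families and
show the Steinberg relations from three base relations.
-/

set_option autoImplicit false

namespace Cfsg.Agent.Lib.ShortPresSL3

open Schur.SteinbergSLn (IsSLnRel)

variable {F : Type*} [Field F] {G : Type*} [Group G] (f : Multiplicative F →* G) (t c : G)

/-- Root `12`. -/
def r12 (x : F) : G := f (Multiplicative.ofAdd x)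
/-- Root `21`. -/
def r21 (x : F) : G := t * r12 f (-x) * t⁻¹
/-- Root `23`. -/
def r23 (x : F) : G := c * r12 f x * c⁻¹
/-- Root `31`. -/
def r31 (x : F) : G := c * r23 f c (-x) * c⁻¹
/-- Root `32`. -/
def r32 (x : F) : G := c * r21 f t x * c⁻¹
/-- Root `13`. -/
def r13 (x : F) : G := c * r32 f t c (-x) * c⁻¹

/-- The six root families. -/
def fam : Fin 3 → Fin 3 → F → G :=
  ![![1, r12 f, r13 f t c], ![r21 f t, 1, r23 f c], ![r31 f c, r32 f t c, 1]]

theorem r12_add (x y : F) : r12 f (x + y) = r12 f x * r12 f y := by simp [r12, ofAdd_add]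
theorem r21_add (x y : F) : r21 f t (x + y) = r21 f t x * r21 f t y := by
  simp only [r21, neg_add, r12_add]; group
theorem r23_add (x y : F) : r23 f c (x + y) = r23 f c x * r23 f c y := by
  simp only [r23, r12_add]; group
theorem r31_add (x y : F) : r31 f c (x + y) = r31 f c x * r31 f c y := by
  simp only [r31, neg_add, r23_add]; group
theorem r32_add (x y : F) : r32 f t c (x + y) = r32 f t c x * r32 f t c y := by
  simp only [r32, r21_add]; group
theorem r13_add (x y : F) : r13 f t c (x + y) = r13 f t c x * r13 f t c y := by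
  simp only [r13, neg_add, r32_add]; group

theorem r13_eq (hc : c⁻¹ = c * c) (x : F) : r13 f t c x = c⁻¹ * (t * r12 f x * t⁻¹) * c := by
  calc r13 f t c x = (c * c) * (t * r12 f x * t⁻¹) * (c * c)⁻¹ := by
        simp only [r13, r32, r21, neg_neg]; group
    _ = _ := by rw [← hc, inv_inv]

/-- The hypotheses on `f`. -/
structure RootData (h t c : G) (ω : F) (f : Multiplicative F →* G) : Prop where
  torus : Torus h t c
  ne : ω ≠ 0
  gen : ∀ b : F, b ≠ 0 → ∃ m : ℕ, ω ^ m = b
  tt : ∀ x, t * t * r12 f x * (t * t)⁻¹ = r12 f x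
  tv : ∀ x, t * t * r23 f c x * (t * t)⁻¹ = r23 f c (-x)
  sh : Scal h (ω ^ 2) (r12 f)
  sk : Scal (c * h * c⁻¹) ω⁻¹ (r12 f)

namespace RootData

variable {f t c} {h : G} {ω : F} (D : RootData h t c ω f)

include D

local notation "kk" => c * h * c⁻¹
local notation "gg" => c⁻¹ * h * c

theorem sg : Scal gg ω⁻¹ (r12 f) := by
  have := (D.sh.mul D.sk).inv (mul_ne_zero (pow_ne_zero 2 D.ne) (inv_ne_zero D.ne))
  rw [← D.torus.g_eq] at this
  convert this using 1
  have := D.ne
  field_simp

theorem h21 : Scal h (ω ^ 2)⁻¹ (r21 f t) := by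
  have := (D.sh.inv (pow_ne_zero 2 D.ne)).conj_neg (s := t) (d' := h) (Y := r21 f t)
    (by rw [← conj_inv, D.torus.th, inv_inv]) fun x => rfl
  exact this

theorem k21 : Scal kk ω (r21 f t) := by
  have := (D.sg.inv (inv_ne_zero D.ne)).conj_neg (s := t) (d' := kk) (Y := r21 f t)
    (by rw [← conj_inv, D.torus.tg, inv_inv]) fun x => rfl
  rwa [inv_inv] at this

theorem g21 : Scal gg ω (r21 f t) := by
  have := (D.sk.inv (inv_ne_zero D.ne)).conj_neg (s := t) (d' := gg) (Y := r21 f t)
    (by rw [← conj_inv, D.torus.tk, inv_inv]) fun x => rfl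
  rwa [inv_inv] at this

theorem h23 : Scal h ω⁻¹ (r23 f c) := D.sg.conj D.torus.cg.symm fun _ => rfl

theorem k23 : Scal kk (ω ^ 2) (r23 f c) := D.sh.conj rfl fun _ => rfl

theorem h13 : Scal h ω (r13 f t c) :=
  ((D.k21).conj (s := c) (d' := gg) (Y := r32 f t c) D.torus.ck.symm fun _ => rfl).conj_neg
    D.torus.cg.symm fun _ => rfl

theorem k13 : Scal kk ω (r13 f t c) := by
  have e : Scal h ω (r32 f t c) := D.g21.conj D.torus.cg.symm fun _ => rfl
  exact e.conj_neg rfl fun _ => rfl

/- The action of `c`. -/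

theorem c31 (x : F) : c * r31 f c x * c⁻¹ = r12 f (-x) := by
  calc c * r31 f c x * c⁻¹ = (c * c * c) * r12 f (-x) * (c * c * c)⁻¹ := by
        simp only [r31, r23]; group
    _ = _ := by rw [D.torus.c3]; group

theorem c13 (x : F) : c * r13 f t c x * c⁻¹ = r21 f t (-x) := by
  calc c * r13 f t c x * c⁻¹ = (c * c * c) * r21 f t (-x) * (c * c * c)⁻¹ := by
        simp only [r13, r32]; group
    _ = _ := by rw [D.torus.c3]; group

/- The action of `t`. -/

theorem t12 (x : F) : t * r12 f x * t⁻¹ = r21 f t (-x) := by rw [r21, neg_neg]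

theorem t21 (x : F) : t * r21 f t x * t⁻¹ = r12 f (-x) := by
  rw [← D.tt (-x), r21]; group

theorem t_inv12 (x : F) : t⁻¹ * r12 f x * t = t * r12 f x * t⁻¹ := by
  calc t⁻¹ * r12 f x * t = t⁻¹ * (t * t * r12 f x * (t * t)⁻¹) * t := by rw [D.tt]
    _ = _ := by group

theorem t23 (x : F) : t * r23 f c x * t⁻¹ = r13 f t c x := by
  calc t * r23 f c x * t⁻¹ = (t * c) * r12 f x * (t * c)⁻¹ := by simp only [r23]; group
    _ = c⁻¹ * (t⁻¹ * r12 f x * t) * c := by rw [D.torus.tc']; group
    _ = _ := by rw [D.t_inv12, r13_eq f t c D.torus.c_inv]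

theorem t13 (x : F) : t * r13 f t c x * t⁻¹ = r23 f c (-x) := by
  rw [← D.t23, ← D.tv]; group

theorem t31 (x : F) : t * r31 f c x * t⁻¹ = r32 f t c (-x) := by
  have e : t⁻¹ * r23 f c (-x) * t = r13 f t c x := by
    rw [← D.t13]; group
  calc t * r31 f c x * t⁻¹ = (t * c) * r23 f c (-x) * (t * c)⁻¹ := by simp only [r31]; group
    _ = c⁻¹ * (t⁻¹ * r23 f c (-x) * t) * c := by rw [D.torus.tc']; group
    _ = _ := by rw [e]; simp only [r13]; group

theorem t32 (x : F) : t * r32 f t c x * t⁻¹ = r31 f c x := by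
  have e : t⁻¹ * r21 f t x * t = r12 f (-x) := by simp only [r21]; group
  calc t * r32 f t c x * t⁻¹ = (t * c) * r21 f t x * (t * c)⁻¹ := by simp only [r32]; group
    _ = c⁻¹ * (t⁻¹ * r21 f t x * t) * c := by rw [D.torus.tc']; group
    _ = c⁻¹ * (c * r31 f c x * c⁻¹) * c := by rw [e, D.c31]
    _ = _ := by group

/-- The relations needed at the base, on a spanning set `S`. -/
theorem rel (S : Set F)
    (hS : ∀ Q : F → Prop, (∀ a a', Q a → Q a' → Q (a + a')) → (∀ s ∈ S, Q s) → ∀ x, Q x)
    (hrow : ∀ s ∈ S, Commute (r12 f s) (r13 f t c 1))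
    (hcol : ∀ s ∈ S, Commute (r13 f t c s) (r23 f c 1))
    (hch : ∀ s ∈ S, r12 f s * r23 f c 1 = r13 f t c s * r23 f c 1 * r12 f s) :
    IsSLnRel (fam f t c) := by
  have hν : ∀ b : F, b ≠ 0 → ∃ m : ℕ, (ω⁻¹) ^ m = b := fun b hb => by
    obtain ⟨m, hm⟩ := D.gen b⁻¹ (inv_ne_zero hb)
    exact ⟨m, by rw [inv_pow, hm, inv_inv]⟩
  have z12 : r12 f (0 : F) = 1 := by simp [r12]
  have z13 : r13 f t c (0 : F) = 1 := by
    have e := r13_add f t c (0 : F) 0
    rw [add_zero] at e
    exact left_eq_mul.1 e
  have z23 : r23 f c 0 = 1 := by rw [r23, z12]; group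
  -- everything commutes in the row `12`, `13`
  have row : ∀ a b, Commute (r12 f a) (r13 f t c b) := by
    refine pair_induction _ (fun a => by rw [z13]; exact Commute.one_right _)
      (fun a a' b h1 h2 => by rw [r12_add]; exact h1.mul_left h2) (ω ^ 2) ω (pow_ne_zero 2 D.ne) D.gen
      (fun a b hab => ?_) S hS hrow
    rw [← D.sh, ← D.h13]
    exact hab.map (MulAut.conj h).toMonoidHom
  have col : ∀ a b, Commute (r13 f t c a) (r23 f c b) := by
    refine pair_induction _ (fun a => by rw [z23]; exact Commute.one_right _)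
      (fun a a' b h1 h2 => by rw [r13_add]; exact h1.mul_left h2) ω ω⁻¹ D.ne hν
      (fun a b hab => ?_) S hS hcol
    rw [← D.h13, ← D.h23]
    exact hab.map (MulAut.conj h).toMonoidHom
  have chn : ∀ a b, r12 f a * r23 f c b = r13 f t c (a * b) * r23 f c b * r12 f a := by
    refine pair_induction _ (fun a => by rw [mul_zero, z13, z23]; group)
      (fun a a' b h1 h2 => ?_) (ω ^ 2) ω⁻¹ (pow_ne_zero 2 D.ne) hν (fun a b hab => ?_) S hS
      (fun s hs => by rw [mul_one]; exact hch s hs)
    · rw [add_mul, r13_add, r12_add]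
      calc r12 f a * r12 f a' * r23 f c b
          = r12 f a * r13 f t c (a' * b) * r23 f c b * r12 f a' := by rw [mul_assoc, h2]; group
        _ = r13 f t c (a' * b) * (r12 f a * r23 f c b) * r12 f a' := by rw [(row _ _).eq]; group
        _ = r13 f t c (a' * b) * r13 f t c (a * b) * r23 f c b * (r12 f a * r12 f a') := by
            rw [h1]; group
        _ = _ := by rw [← r13_add, ← r13_add, add_comm (a' * b)]
    · rw [show ω ^ 2 * a * (ω⁻¹ * b) = ω * (a * b) by have := D.ne; field_simp, ← D.sh, ← D.h23,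
        ← D.h13]
      calc h * r12 f a * h⁻¹ * (h * r23 f c b * h⁻¹) = h * (r12 f a * r23 f c b) * h⁻¹ := by group
        _ = _ := by rw [hab]; group
  -- transport of commuting pairs and of commutator relations
  have mc : ∀ (s : G) {x y x' y' : G}, Commute x y → s * x * s⁻¹ = x' → s * y * s⁻¹ = y' →
      Commute x' y' := fun s x y x' y' hxy hx hy => hx ▸ hy ▸ hxy.map (MulAut.conj s).toMonoidHom
  have mch : ∀ (s : G) {x y z x' y' z' : G}, x * y = z * y * x → s * x * s⁻¹ = x' → s * y * s⁻¹ = y' →
      s * z * s⁻¹ = z' → x' * y' = z' * y' * x' := by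
    intro s x y z x' y' z' hxy hx hy hz
    subst hx; subst hy; subst hz
    calc s * x * s⁻¹ * (s * y * s⁻¹) = s * (x * y) * s⁻¹ := by group
      _ = _ := by rw [hxy]; group
  have row2 : ∀ a b, Commute (r23 f c a) (r21 f t b) := fun a b =>
    mc c (row a (-b)) rfl (by rw [D.c13, neg_neg])
  have row3 : ∀ a b, Commute (r31 f c a) (r32 f t c b) := fun a b =>
    mc c (row2 (-a) b) rfl rfl
  have col2 : ∀ a b, Commute (r21 f t a) (r31 f c b) := fun a b =>
    mc c (col (-a) (-b)) (by rw [D.c13, neg_neg]) rfl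
  have col3 : ∀ a b, Commute (r32 f t c a) (r12 f b) := fun a b =>
    mc c (col2 a (-b)) rfl (by rw [D.c31, neg_neg])
  have ch231 : ∀ a b, r23 f c a * r31 f c b = r21 f t (a * b) * r31 f c b * r23 f c a := fun a b =>
    mch c (chn a (-b)) rfl rfl (by rw [D.c13]; congr 1; ring)
  have ch312 : ∀ a b, r31 f c a * r12 f b = r32 f t c (a * b) * r12 f b * r31 f c a := fun a b =>
    mch c (ch231 (-a) (-b)) rfl (by rw [D.c31, neg_neg]) (by rw [neg_mul_neg]; rfl)
  have ch213 : ∀ a b, r21 f t a * r13 f t c b = r23 f c (a * b) * r13 f t c b * r21 f t a := fun a b =>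
    mch t (chn (-a) b) rfl (D.t23 b) (by rw [D.t13]; congr 1; ring)
  have ch321 : ∀ a b, r32 f t c a * r21 f t b = r31 f c (a * b) * r21 f t b * r32 f t c a := fun a b =>
    mch c (ch213 a (-b)) rfl (by rw [D.c13, neg_neg]) (by rw [mul_neg]; rfl)
  have ch132 : ∀ a b, r13 f t c a * r32 f t c b = r12 f (a * b) * r32 f t c b * r13 f t c a := fun a b =>
    mch c (ch321 (-a) b) rfl rfl (by rw [D.c31]; congr 1; ring)
  constructor
  · intro i j hij a b
    fin_cases i <;> fin_cases j <;> first
      | exact absurd rfl hij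
      | exact r12_add f a b
      | exact r21_add f t a b
      | exact r23_add f c a b
      | exact r31_add f c a b
      | exact r32_add f t c a b
      | exact r13_add f t c a b
  · intro i j k l hij hkl hil hjk a b
    fin_cases i <;> fin_cases j <;> fin_cases k <;> fin_cases l <;> first
      | exact absurd rfl hij
      | exact absurd rfl hkl
      | exact absurd rfl hil
      | exact absurd rfl hjk
      | exact ((row a b).eq)
      | exact ((row b a).symm.eq)
      | exact ((row2 a b).eq)
      | exact ((row2 b a).symm.eq)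
      | exact ((row3 a b).eq)
      | exact ((row3 b a).symm.eq)
      | exact ((col a b).eq)
      | exact ((col b a).symm.eq)
      | exact ((col2 a b).eq)
      | exact ((col2 b a).symm.eq)
      | exact ((col3 a b).eq)
      | exact ((col3 b a).symm.eq)
      | exact (by show r12 f a * r12 f b = r12 f b * r12 f a
                  rw [← r12_add, ← r12_add, add_comm])
      | exact (by show r21 f t a * r21 f t b = r21 f t b * r21 f t a
                  rw [← r21_add, ← r21_add, add_comm])
      | exact (by show r23 f c a * r23 f c b = r23 f c b * r23 f c a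
                  rw [← r23_add, ← r23_add, add_comm])
      | exact (by show r31 f c a * r31 f c b = r31 f c b * r31 f c a
                  rw [← r31_add, ← r31_add, add_comm])
      | exact (by show r32 f t c a * r32 f t c b = r32 f t c b * r32 f t c a
                  rw [← r32_add, ← r32_add, add_comm])
      | exact (by show r13 f t c a * r13 f t c b = r13 f t c b * r13 f t c a
                  rw [← r13_add, ← r13_add, add_comm])
  · intro i j l hij hjl hil a b
    fin_cases i <;> fin_cases j <;> fin_cases l <;> first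
      | exact absurd rfl hij
      | exact absurd rfl hjl
      | exact absurd rfl hil
      | exact chn a b
      | exact ch231 a b
      | exact ch312 a b
      | exact ch213 a b
      | exact ch321 a b
      | exact ch132 a b

end RootData

end Cfsg.Agent.Lib.ShortPresSL3
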