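import Mathlib
import Cfsg.Agent.Lib.ShortPresSL3.Steinberg

/-!
# Short presentations of `SL₃(q)`: surjections from `SL₃`

A group on four elements subject to the relations of the presentation is an image of `SL₃(F)`.
-/

set_option autoImplicit false

namespace Cfsg.Agent.Lib.ShortPresSL3

open Polynomial Subgroup
open ShortPresSL2 (polyWord)

variable {F : Type*} [Field F] [Finite F] {G : Type*} [Group G]

/-- The element `x₁₃(1)`. -/
def zElt (u t c : G) : G := c⁻¹ * (t * u * t⁻¹) * c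

theorem RootData.exists_surjection {f : Multiplicative F →* G} {h t c : G} {ω : F}
    (D : RootData h t c ω f) (S : Set F)
    (hS : ∀ Q : F → Prop, (∀ a a', Q a → Q a' → Q (a + a')) → (∀ s ∈ S, Q s) → ∀ x, Q x)
    (hrow : ∀ s ∈ S, Commute (r12 f s) (r13 f t c 1))
    (hcol : ∀ s ∈ S, Commute (r13 f t c s) (r23 f c 1))
    (hch : ∀ s ∈ S, r12 f s * r23 f c 1 = r13 f t c s * r23 f c 1 * r12 f s)
    {u : G} (hu : r12 f 1 = u) (hb : t * u * t⁻¹ = u⁻¹ * t * u⁻¹)
    (hh : h = r12 f ω * (t * r12 f ω⁻¹ * t⁻¹) * r12 f ω * t⁻¹)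
    (hgen : closure ({u, h, t, c} : Set G) = ⊤) :
    ∃ φ : Matrix.SpecialLinearGroup (Fin 3) F →* G, Function.Surjective φ := by
  obtain ⟨e, -⟩ := Schur.SteinbergSLn.exists_presentation (F := F) 3 le_rfl
  have R := D.rel S hS hrow hcol hch
  let φ₀ := PresentedGroup.toGroup (Schur.SteinbergSLn.rels_eval R)
  suffices hsur : Function.Surjective φ₀ from
    ⟨φ₀.comp e.symm.toMonoidHom, hsur.comp e.symm.surjective⟩
  rw [← MonoidHom.range_eq_top, eq_top_iff, ← hgen, closure_le]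
  have hm : ∀ (i j : Fin 3), i ≠ j → ∀ x : F, fam f t c i j x ∈ φ₀.range := fun i j hij x =>
    ⟨PresentedGroup.of (⟨(i, j), hij⟩, x), PresentedGroup.toGroup.of _⟩
  have m12 : ∀ x : F, r12 f x ∈ φ₀.range := fun x => hm 0 1 (by decide) x
  have m21 : ∀ x : F, r21 f t x ∈ φ₀.range := fun x => hm 1 0 (by decide) x
  have m23 : ∀ x : F, r23 f c x ∈ φ₀.range := fun x => hm 1 2 (by decide) x
  have m32 : ∀ x : F, r32 f t c x ∈ φ₀.range := fun x => hm 2 1 (by decide) x
  have hU : u ∈ φ₀.range := hu ▸ m12 1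
  have hY : t * u * t⁻¹ ∈ φ₀.range := by
    rw [← hu, D.t12]; exact m21 _
  have ht : t = u * (t * u * t⁻¹) * u := by rw [hb]; group
  have hT : t ∈ φ₀.range := by
    rw [ht]; exact mul_mem (mul_mem hU hY) hU
  have hT' : c * t * c⁻¹ ∈ φ₀.range := by
    have e1 : c * t * c⁻¹ = r23 f c 1 * r32 f t c (-1) * r23 f c 1 := by
      conv_lhs => rw [ht]
      simp only [r23, r32, r21, neg_neg, hu]
      group
    rw [e1]; exact mul_mem (mul_mem (m23 _) (m32 _)) (m23 _)
  have hC : c ∈ φ₀.range := by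
    have e1 : c = t * (c * t * c⁻¹) := by
      calc c = (t * c * t * c) * (c * c * c)⁻¹ * c := by rw [D.torus.tc, D.torus.c3]; group
        _ = _ := by group
    rw [e1]; exact mul_mem hT hT'
  have hH : h ∈ φ₀.range := by
    rw [hh]
    exact mul_mem (mul_mem (mul_mem (m12 _) (mul_mem (mul_mem hT (m12 _)) (φ₀.range.inv_mem hT)))
      (m12 _)) (φ₀.range.inv_mem hT)
  rintro x (rfl | rfl | rfl | rfl)
  exacts [hU, hH, hT, hC]

/-- Facts common to the two cases. -/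
theorem torus_aux {u h t c : G} (T : Torus h t c) (he : Commute (h * (c * h * c⁻¹) * (c * h * c⁻¹)) u) :
    Commute (h * (c * h * c⁻¹)⁻¹) (zElt u t c) ∧
    Commute (h * h * (c * h * c⁻¹)) (c * (t * u * t⁻¹) * c⁻¹) ∧
    Commute (h * (c * h * c⁻¹) * (c * h * c⁻¹)) (h * (c * h * c⁻¹)⁻¹) := by
  set k := c * h * c⁻¹ with hk
  set g := c⁻¹ * h * c with hg
  set e := h * k * k with hed
  have hgi : g⁻¹ = h * k := by rw [hg, T.g_eq, inv_inv]
  have hey : Commute e (t * u * t⁻¹) := by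
    have h1 : t * e * t⁻¹ = e := by
      calc t * e * t⁻¹ = (t * h * t⁻¹) * (t * k * t⁻¹) * (t * k * t⁻¹) := by rw [hed]; group
        _ = h⁻¹ * (h * k) * (h * k) := by rw [T.th, hk, T.tk, ← hk, ← hg, hgi]
        _ = k * h * k := by group
        _ = e := by rw [← T.hk.eq]
    have h2 := he.map (MulAut.conj t).toMonoidHom
    simp only [MulEquiv.coe_toMonoidHom, MulAut.conj_apply] at h2
    rwa [h1] at h2
  refine ⟨?_, ?_, ?_⟩
  · have h2 := hey.map (MulAut.conj c⁻¹).toMonoidHom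
    simp only [MulEquiv.coe_toMonoidHom, MulAut.conj_apply, inv_inv] at h2
    have h1 : c⁻¹ * e * c = h * k⁻¹ := by
      calc c⁻¹ * e * c = (c⁻¹ * h * c) * (c⁻¹ * k * c) * (c⁻¹ * k * c) := by rw [hed]; group
        _ = g * h * h := by rw [hk, hg]; group
        _ = k⁻¹ * h := by rw [hg, T.g_eq, ← hk]; group
        _ = _ := (T.hk.inv_right.eq).symm
    rwa [h1] at h2
  · have h2 := (hey.map (MulAut.conj c).toMonoidHom).inv_left
    simp only [MulEquiv.coe_toMonoidHom, MulAut.conj_apply] at h2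
    have h1 : (c * e * c⁻¹)⁻¹ = h * h * k := by
      calc (c * e * c⁻¹)⁻¹ = ((c * h * c⁻¹) * (c * k * c⁻¹) * (c * k * c⁻¹))⁻¹ := by rw [hed]; group
        _ = g⁻¹ * (g⁻¹ * k⁻¹) := by
          rw [show c * h * c⁻¹ = k from rfl, show c * k * c⁻¹ = g from T.ck]; group
        _ = h * k * h := by rw [hgi]; group
        _ = h * (k * h) := mul_assoc _ _ _
        _ = _ := by rw [show k * h = h * k from T.hk.eq.symm, ← mul_assoc]
    rwa [h1] at h2
  · exact ((Commute.refl h).mul_left T.hk.symm).mul_left T.hk.symm |>.mul_right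
      ((T.hk.mul_left (Commute.refl k)).mul_left (Commute.refl k)).inv_right

section generic

variable {p : ℕ} [Fact p.Prime] [Algebra (ZMod p) F]

theorem add_closed_induction {α : F} (hsurj : Function.Surjective (aeval α : (ZMod p)[X] → F))
    (Q : F → Prop) (hadd : ∀ a a', Q a → Q a' → Q (a + a')) (hs : ∀ n : ℕ, Q (α ^ n)) : ∀ x, Q x := by
  haveI : CharP F p := charP_of_injective_algebraMap (algebraMap (ZMod p) F).injective p
  have hmul : ∀ (x : F), Q x → ∀ m : ℕ, Q ((m + 1) • x) := by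
    intro x hx m
    induction m with
    | zero => simpa using hx
    | succ m ih => rw [succ_nsmul]; exact hadd _ _ ih hx
  have h0 : Q 0 := by
    have := hmul _ (hs 0) (p - 1)
    rwa [Nat.sub_add_cancel (Fact.out : p.Prime).pos, pow_zero, nsmul_one, CharP.cast_eq_zero] at this
  intro x
  obtain ⟨P, rfl⟩ := hsurj x
  induction P using Polynomial.induction_on' with
  | add P₁ P₂ h1 h2 => rw [map_add]; exact hadd _ _ h1 h2
  | monomial n r =>
    rw [aeval_monomial, ← ZMod.natCast_zmod_val r, map_natCast, ← nsmul_eq_mul]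
    rcases r.val with _ | m
    · rw [zero_nsmul]; exact h0
    · exact hmul _ (hs n) m

variable {u h t c : G} {ω : F}

/-- The general case. -/
theorem exists_surjection_generic (T : Torus h t c) (hω : ω ≠ 0)
    (hgenω : ∀ b : F, b ≠ 0 → ∃ m : ℕ, ω ^ m = b)
    (hsurj : Function.Surjective (aeval (ω ^ 3) : (ZMod p)[X] → F))
    (hup : u ^ p = 1) (hb : t * u * t⁻¹ = u⁻¹ * t * u⁻¹)
    (hmin : polyWord u (h * (c * h * c⁻¹)⁻¹) (minpoly (ZMod p) (ω ^ 3)) = 1)
    (he : Commute (h * (c * h * c⁻¹) * (c * h * c⁻¹)) u)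
    {Pk Pz Pi : (ZMod p)[X]} (hPk : aeval (ω ^ 3) Pk = ω⁻¹) (hPz : aeval (ω ^ 3) Pz = ω)
    (hPi : aeval (ω ^ 3) Pi = ω⁻¹)
    (hku : (c * h * c⁻¹) * u * (c * h * c⁻¹)⁻¹ = polyWord u (h * (c * h * c⁻¹)⁻¹) Pk)
    (hh : h = polyWord u (h * (c * h * c⁻¹)⁻¹) Pz * (t * polyWord u (h * (c * h * c⁻¹)⁻¹) Pi * t⁻¹) *
      polyWord u (h * (c * h * c⁻¹)⁻¹) Pz * t⁻¹)
    (hrow : Commute u (zElt u t c))
    (hch : u * (c * u * c⁻¹) * u⁻¹ * (c * u * c⁻¹)⁻¹ = zElt u t c)
    (htv : t * t * (c * u * c⁻¹) * (t * t)⁻¹ = (c * u * c⁻¹)⁻¹)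
    (hgen : closure ({u, h, t, c} : Set G) = ⊤) :
    ∃ φ : Matrix.SpecialLinearGroup (Fin 3) F →* G, Function.Surjective φ := by
  obtain ⟨haz, haw, hea⟩ := torus_aux T he
  set k := c * h * c⁻¹ with hk
  set a := h * k⁻¹ with had
  set e := h * k * k with hed
  set v := c * u * c⁻¹ with hv
  set y := t * u * t⁻¹ with hy
  set z := zElt u t c with hz
  set w := c * y⁻¹ * c⁻¹ with hw
  have htu := sq_comm_of_braid hb
  have htu' : t⁻¹ * u * t = y := by
    calc t⁻¹ * u * t = t⁻¹ * (u * (t * t)) * t⁻¹ := by group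
      _ = t⁻¹ * (t * t * u) * t⁻¹ := by rw [htu.eq]
      _ = _ := by rw [hy]; group
  have htv1 : t * v * t⁻¹ = z := by
    calc t * v * t⁻¹ = (t * c) * u * (t * c)⁻¹ := by rw [hv]; group
      _ = c⁻¹ * (t⁻¹ * u * t) * c := by rw [T.tc']; group
      _ = _ := by rw [htu', hz, zElt]
  have htz : t * z * t⁻¹ = v⁻¹ := by rw [← htv1, ← htv]; group
  have hyz : y * z * y⁻¹ * z⁻¹ = v⁻¹ := by
    calc y * z * y⁻¹ * z⁻¹ = y * (t * v * t⁻¹) * y⁻¹ * (t * v * t⁻¹)⁻¹ := by rw [htv1]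
      _ = t * (u * v * u⁻¹ * v⁻¹) * t⁻¹ := by rw [hy]; group
      _ = _ := by rw [hch, htz]
  have hyv : Commute y v := by
    have h1 := hrow.map (MulAut.conj c).toMonoidHom
    simp only [MulEquiv.coe_toMonoidHom, MulAut.conj_apply] at h1
    rw [show c * z * c⁻¹ = y by rw [hz, zElt, hy]; group] at h1
    exact h1.symm
  have hzv : Commute z v := col_of_row (by rw [hb]; group) hrow hyv htv1 hyz hch
  have hcz : c⁻¹ * z * c = w⁻¹ := by
    calc c⁻¹ * z * c = c⁻¹ * (c⁻¹ * y * c) * c := by rw [hz, zElt]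
      _ = (c⁻¹ * c⁻¹) * y * (c⁻¹ * c⁻¹)⁻¹ := by simp only [mul_inv_rev, inv_inv, mul_assoc]
      _ = _ := by
        rw [← mul_inv_rev, ← T.c_inv, inv_inv, hw]; group
  have hcv : c⁻¹ * v * c = u := by rw [hv]; group
  have huw : Commute u w := by
    have h1 := hzv.map (MulAut.conj c⁻¹).toMonoidHom
    simp only [MulEquiv.coe_toMonoidHom, MulAut.conj_apply, inv_inv, hcz, hcv] at h1
    simpa using h1.inv_left.symm
  have hzw : z * w * z⁻¹ * w⁻¹ = u := by
    have h1 : z * w⁻¹ * z⁻¹ * w = u⁻¹ := by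
      calc z * w⁻¹ * z⁻¹ * w = (c⁻¹ * y * c) * (c⁻¹ * z * c) * (c⁻¹ * y * c)⁻¹ * (c⁻¹ * z * c)⁻¹ := by
            rw [hcz, inv_inv, hz, zElt]
        _ = c⁻¹ * (y * z * y⁻¹ * z⁻¹) * c := by group
        _ = _ := by rw [hyz, ← hcv]; group
    calc z * w * z⁻¹ * w⁻¹ = w * (z * w⁻¹ * z⁻¹ * w)⁻¹ * w⁻¹ := by group
      _ = u := by rw [h1, inv_inv, ← huw.eq, mul_inv_cancel_right]
  have haw' : Commute (a * e) w := by
    have e1 : a * e = h * h * k := by
      calc a * e = h * (k⁻¹ * h) * (k * k) := by rw [had, hed]; group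
        _ = h * (h * k⁻¹) * (k * k) := by rw [T.hk.inv_right.eq]
        _ = _ := by group
    rw [e1, hw]
    simpa [mul_assoc] using haw.inv_right
  have hcomm := comm_orbit hrow huw hzw hea he haz haw'
  have hka : Commute k a := by
    rw [had]; exact T.hk.symm.mul_right (Commute.refl k).inv_right
  obtain ⟨f, hf1, hfw, hfk⟩ := ShortPresSL2.exists_hom_field (ω ^ 3) ω⁻¹ hsurj hup hcomm hmin hka hPk hku
  have hw1 : polyWord u a (1 : (ZMod p)[X]) = u := by rw [hfw, aeval_one, hf1]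
  obtain ⟨f', hf1', hfw', hfe⟩ := ShortPresSL2.exists_hom_field (ω ^ 3) 1 hsurj hup hcomm hmin hea
    (aeval_one _) (by rw [hw1, he.eq, mul_inv_cancel_right])
  have hff : ∀ x, r12 f' x = r12 f x := fun x => by
    obtain ⟨P, rfl⟩ := hsurj x
    rw [r12, r12, ← hfw', ← hfw]
  have sk : Scal k ω⁻¹ (r12 f) := hfk
  have se : Scal e 1 (r12 f) := fun x => by rw [← hff, ← hff]; exact hfe x
  have sh : Scal h (ω ^ 2) (r12 f) := by
    have := (se.mul (sk.inv (inv_ne_zero hω))).mul (sk.inv (inv_ne_zero hω))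
    convert this using 1
    · rw [hed]; group
    · rw [inv_inv]; ring
  have hda : ∀ d : G, Commute d a → ∀ P : (ZMod p)[X],
      d * polyWord u a P * d⁻¹ = polyWord (d * u * d⁻¹) a P := fun d hd P => by
    have h1 := ShortPresSL2.map_polyWord (MulAut.conj d).toMonoidHom u a P
    simp only [MulEquiv.coe_toMonoidHom, MulAut.conj_apply] at h1
    rw [h1, hd.eq, mul_inv_cancel_right]
  have httg : Commute (t * t) (c⁻¹ * h * c) := by
    rw [T.g_eq]; exact (T.tt_h.mul_right T.tt_k).inv_right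
  have httc : Commute (c⁻¹ * (t * t) * c) a := by
    have conj' : ∀ x, Commute (t * t) x → Commute (c⁻¹ * (t * t) * c) (c⁻¹ * x * c) := fun x hx => by
      have := hx.map (MulAut.conj c⁻¹).toMonoidHom
      simpa only [MulEquiv.coe_toMonoidHom, MulAut.conj_apply, inv_inv] using this
    have c1 : Commute (c⁻¹ * (t * t) * c) h := by
      have := conj' _ T.tt_k
      rwa [show c⁻¹ * (c * h * c⁻¹) * c = h by group] at this
    have c2 : Commute (c⁻¹ * (t * t) * c) (h * k)⁻¹ := by rw [← T.g_eq]; exact conj' _ T.tt_h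
    have c3 : Commute (c⁻¹ * (t * t) * c) k := by
      have := c1.inv_right.mul_right c2.inv_right
      rwa [inv_inv, inv_mul_cancel_left] at this
    exact c1.mul_right c3.inv_right
  have tt : ∀ x, t * t * r12 f x * (t * t)⁻¹ = r12 f x := fun x => by
    obtain ⟨P, rfl⟩ := hsurj x
    rw [r12, ← hfw, hda _ (T.tt_h.mul_right T.tt_k.inv_right) P, htu.eq, mul_inv_cancel_right]
  have tv : ∀ x, t * t * r23 f c x * (t * t)⁻¹ = r23 f c (-x) := fun x => by
    obtain ⟨P, rfl⟩ := hsurj x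
    have hd : c⁻¹ * (t * t) * c * u * (c⁻¹ * (t * t) * c)⁻¹ = u⁻¹ := by
      calc c⁻¹ * (t * t) * c * u * (c⁻¹ * (t * t) * c)⁻¹ = c⁻¹ * (t * t * v * (t * t)⁻¹) * c := by
            rw [hv]; group
        _ = _ := by rw [htv, hv]; group
    let fn : Multiplicative F →* G := MonoidHom.mk' (fun x => f x⁻¹) fun x y => by
      rw [mul_inv, map_mul]
    have hn := ShortPresSL2.polyWord_eq (ω ^ 3) fn (u := u⁻¹) (a := a)
      (by show f (Multiplicative.ofAdd (1 : F))⁻¹ = u⁻¹; rw [map_inv, hf1])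
      (fun r => by
        show f (Multiplicative.ofAdd (ω ^ 3 * r))⁻¹ = a * f (Multiplicative.ofAdd r)⁻¹ * a⁻¹
        have h3 : Scal a (ω ^ 3) (r12 f) := by
          convert sh.mul (sk.inv (inv_ne_zero hω)) using 1
          rw [inv_inv]; ring
        rw [map_inv, map_inv, ← conj_inv]
        exact congrArg (·⁻¹) (h3 r).symm) P
    calc t * t * r23 f c (aeval (ω ^ 3) P) * (t * t)⁻¹
        = c * (c⁻¹ * (t * t) * c * r12 f (aeval (ω ^ 3) P) * (c⁻¹ * (t * t) * c)⁻¹) * c⁻¹ := by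
          rw [r23]; group
      _ = _ := by
          rw [r12, ← hfw, hda _ httc, hd, hn, r23, r12]
          rfl
  have D : RootData h t c ω f := ⟨T, hω, hgenω, tt, tv, sh, sk⟩
  have hpow : ∀ (d : G) (l : F) (X : F → G), Scal d l X → ∀ (n : ℕ) (x : F),
      d ^ n * X x * (d ^ n)⁻¹ = X (l ^ n * x) := by
    intro d l X hd n
    induction n with
    | zero => intro x; simp
    | succ n ih => intro x; rw [pow_succ' l, mul_assoc l, ← hd, ← ih, pow_succ']; group
  have z1 : r13 f t c 1 = z := by rw [r13_eq f t c T.c_inv, r12, hf1, hz, zElt]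
  have v1 : r23 f c 1 = v := by rw [r23, r12, hf1]
  have s12 : Scal a (ω ^ 3) (r12 f) := by
    convert sh.mul (sk.inv (inv_ne_zero hω)) using 1
    rw [inv_inv]; ring
  have s12' : Scal (h * h * k) (ω ^ 3) (r12 f) := by
    convert (sh.mul sh).mul sk using 1
    field_simp
  have s13 : Scal (h * h * k) (ω ^ 3) (r13 f t c) := by
    convert (D.h13.mul D.h13).mul D.k13 using 1
    ring
  have s13' : Scal a 1 (r13 f t c) := by
    convert D.h13.mul (D.k13.inv hω) using 1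
    rw [mul_inv_cancel₀ hω]
  have s23 : Scal (h * h * k) 1 (r23 f c) := by
    convert (D.h23.mul D.h23).mul D.k23 using 1
    field_simp
  refine D.exists_surjection (Set.range fun n : ℕ => (ω ^ 3) ^ n)
    (fun Q hadd hs => add_closed_induction hsurj Q hadd fun n => hs _ ⟨n, rfl⟩) ?_ ?_ ?_ hf1 hb ?_ hgen
  · rintro _ ⟨n, rfl⟩
    have h1 : Commute (r12 f 1) (r13 f t c 1) := by rw [z1, r12, hf1]; exact hrow
    have h2 := h1.map (MulAut.conj (a ^ n)).toMonoidHom
    simp only [MulEquiv.coe_toMonoidHom, MulAut.conj_apply] at h2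
    simpa [hpow _ _ _ s12, hpow _ _ _ s13'] using h2
  · rintro _ ⟨n, rfl⟩
    have h1 : Commute (r13 f t c 1) (r23 f c 1) := by rw [z1, v1]; exact hzv
    have h2 := h1.map (MulAut.conj ((h * h * k) ^ n)).toMonoidHom
    simp only [MulEquiv.coe_toMonoidHom, MulAut.conj_apply] at h2
    simpa [hpow _ _ _ s13, hpow _ _ _ s23] using h2
  · rintro _ ⟨n, rfl⟩
    have h1 : r12 f 1 * r23 f c 1 = r13 f t c 1 * r23 f c 1 * r12 f 1 := by
      rw [z1, v1, r12, hf1, ← hch]; group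
    have h2 := congrArg (fun g => (h * h * k) ^ n * g * ((h * h * k) ^ n)⁻¹) h1
    simp only [← conj_mul] at h2
    simpa [hpow _ _ _ s12', hpow _ _ _ s13, hpow _ _ _ s23] using h2
  · rw [r12, r12, ← hPz, ← hfw, show (aeval (ω ^ 3) Pz)⁻¹ = aeval (ω ^ 3) Pi by rw [hPz, hPi], ← hfw]
    exact hh

end generic

section four

variable [CharP F 2] [Algebra (ZMod 2) F] [Fact (Nat.Prime 2)] {u h t c : G} {ω : F}

/-- The field of four elements. -/
theorem exists_surjection_four (T : Torus h t c) (hω : ω ≠ 0)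
    (hgenω : ∀ b : F, b ≠ 0 → ∃ m : ℕ, ω ^ m = b) (hω2 : ω ^ 2 = ω + 1)
    (hsurj : Function.Surjective (aeval ω⁻¹ : (ZMod 2)[X] → F))
    (hdeg : (minpoly (ZMod 2) ω⁻¹).natDegree ≤ 2)
    (hup : u ^ 2 = 1) (hb : t * u * t⁻¹ = u⁻¹ * t * u⁻¹)
    (hmin : polyWord u (c * h * c⁻¹) (minpoly (ZMod 2) ω⁻¹) = 1)
    (he : Commute (h * (c * h * c⁻¹) * (c * h * c⁻¹)) u)
    {Pz Pi : (ZMod 2)[X]} (hPz : aeval ω⁻¹ Pz = ω) (hPi : aeval ω⁻¹ Pi = ω⁻¹)
    (hh : h = polyWord u (c * h * c⁻¹) Pz * (t * polyWord u (c * h * c⁻¹) Pi * t⁻¹) *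
      polyWord u (c * h * c⁻¹) Pz * t⁻¹)
    (hku : Commute u ((c * h * c⁻¹) * u * (c * h * c⁻¹)⁻¹))
    (hch : u * (c * u * c⁻¹) * u⁻¹ * (c * u * c⁻¹)⁻¹ = zElt u t c)
    (hch' : u * (c * ((c * h * c⁻¹) * u * (c * h * c⁻¹)⁻¹) * c⁻¹) * u⁻¹ *
      (c * ((c * h * c⁻¹) * u * (c * h * c⁻¹)⁻¹) * c⁻¹)⁻¹ =
      zElt ((c * h * c⁻¹) * u * (c * h * c⁻¹)⁻¹) t c)
    (hgen : closure ({u, h, t, c} : Set G) = ⊤) :
    ∃ φ : Matrix.SpecialLinearGroup (Fin 3) F →* G, Function.Surjective φ := by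
  obtain ⟨-, -, hea⟩ := torus_aux T he
  set k := c * h * c⁻¹ with hk
  set e := h * k * k with hed
  have hek : Commute e k := by
    rw [hed]; exact (T.hk.mul_left (Commute.refl k)).mul_left (Commute.refl k)
  have hcomm : ∀ n : ℕ, Commute u (k ^ n * u * (k ^ n)⁻¹) := by
    refine ShortPresSL2.commute_conj_pow_of_relation (minpoly.monic (Algebra.IsIntegral.isIntegral _))
      hmin fun i hi => ?_
    obtain rfl | rfl : i = 0 ∨ i = 1 := by omega
    · simp
    · rw [pow_one]; exact hku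
  obtain ⟨f, hf1, hfw, hfk⟩ := ShortPresSL2.exists_hom_field ω⁻¹ ω⁻¹ hsurj hup hcomm hmin
    (Commute.refl k) (aeval_X _) (ShortPresSL2.polyWord_X u k).symm
  have hw1 : polyWord u k (1 : (ZMod 2)[X]) = u := by rw [hfw, aeval_one, hf1]
  obtain ⟨f', hf1', hfw', hfe⟩ := ShortPresSL2.exists_hom_field ω⁻¹ 1 hsurj hup hcomm hmin hek
    (aeval_one _) (by rw [hw1, he.eq, mul_inv_cancel_right])
  have hff : ∀ x, r12 f' x = r12 f x := fun x => by
    obtain ⟨P, rfl⟩ := hsurj x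
    rw [r12, r12, ← hfw', ← hfw]
  have sk : Scal k ω⁻¹ (r12 f) := hfk
  have se : Scal e 1 (r12 f) := fun x => by rw [← hff, ← hff]; exact hfe x
  have sh : Scal h (ω ^ 2) (r12 f) := by
    have := (se.mul (sk.inv (inv_ne_zero hω))).mul (sk.inv (inv_ne_zero hω))
    convert this using 1
    · rw [hed]; group
    · rw [inv_inv]; ring
  have h20 : (1 : F) + 1 = 0 := CharTwo.add_self_eq_zero 1
  have hsq : ∀ x, r12 f x * r12 f x = 1 := fun x => by
    rw [← r12_add, CharTwo.add_self_eq_zero, r12, ofAdd_zero, map_one]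
  have hu1 : r12 f 1 = u := hf1
  have huu : u * u = 1 := by rw [← hu1, hsq]
  have htt : t * t = 1 := by
    have e1 : t = u * (t * u * t⁻¹) * u := by rw [hb]; group
    calc t * t = u * (t * u * t⁻¹) * u * (u * (t * u * t⁻¹) * u) := congrArg₂ (· * ·) e1 e1
      _ = u * (t * u * t⁻¹) * (u * u) * (t * u * t⁻¹) * u := by group
      _ = u * (t * u * t⁻¹ * (t * u * t⁻¹)) * u := by rw [huu]; group
      _ = u * (t * (u * u) * t⁻¹) * u := by group
      _ = 1 := by rw [huu]; simpa using huu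
  have hneg : ∀ x : F, -x = x := CharTwo.neg_eq
  have D : RootData h t c ω f := ⟨T, hω, hgenω, fun x => by rw [htt]; group,
    fun x => by rw [htt, hneg]; group, sh, sk⟩
  have hi : ω⁻¹ = ω ^ 2 := by
    refine inv_eq_of_mul_eq_one_right ?_
    rw [hω2, mul_add, ← pow_two, hω2, mul_one]
    linear_combination ω * h20
  have hi2 : ω⁻¹ * ω⁻¹ = ω := by
    rw [hi, hω2]; linear_combination hω2 + (ω + 1) * h20
  have hku' : k * u * k⁻¹ = r12 f ω⁻¹ := by rw [← hu1, sk, mul_one]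
  have c1 : r12 f 1 * r23 f c 1 * (r12 f 1)⁻¹ * (r23 f c 1)⁻¹ = r13 f t c 1 := by
    simpa [r23, r13_eq f t c T.c_inv, hu1, zElt] using hch
  have c2 : r12 f 1 * r23 f c ω⁻¹ * (r12 f 1)⁻¹ * (r23 f c ω⁻¹)⁻¹ = r13 f t c ω⁻¹ := by
    simpa [r23, r13_eq f t c T.c_inv, hu1, hku', zElt] using hch'
  have hsq23 : ∀ x, r23 f c x * r23 f c x = 1 := fun x => by
    calc r23 f c x * r23 f c x = c * (r12 f x * r12 f x) * c⁻¹ := by rw [r23]; group
      _ = 1 := by rw [hsq]; group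
  have hsq13 : ∀ x, r13 f t c x * r13 f t c x = 1 := fun x => by
    calc r13 f t c x * r13 f t c x = c⁻¹ * (t * (r12 f x * r12 f x) * t⁻¹) * c := by
          rw [r13_eq f t c T.c_inv]; group
      _ = 1 := by rw [hsq]; group
  have d1 := comm_of_dihedral (hsq _) (hsq23 _) (hsq13 _) c1
  have d2 := comm_of_dihedral (hsq _) (hsq23 _) (hsq13 _) c2
  refine D.exists_surjection {1, ω} (fun Q hadd hs x => ?_) ?_ ?_ ?_ hf1 hb ?_ hgen
  · have q1 := hs 1 (Or.inl rfl)
    have q2 := hs ω (Or.inr rfl)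
    rcases eq_or_ne x 0 with rfl | hx
    · rw [← h20]; exact hadd _ _ q1 q1
    · obtain ⟨m, rfl⟩ := hgenω x hx
      clear hx
      have key : ∀ n : ℕ, (ω ^ n = 1 ∨ ω ^ n = ω) ∨ ω ^ n = ω + 1 := by
        intro n
        induction n with
        | zero => simp
        | succ n ih =>
          rcases ih with (e | e) | e
          · exact Or.inl (Or.inr (by rw [pow_succ, e, one_mul]))
          · exact Or.inr (by rw [pow_succ, e, ← pow_two, hω2])
          · exact Or.inl (Or.inl (by rw [pow_succ, e]; linear_combination hω2 + ω * h20))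
      rcases key m with (e | e) | e <;> rw [e]
      exacts [q1, q2, hadd _ _ q2 q1]
  · rintro s (rfl | rfl)
    · exact d1.1
    · have h2 := d2.1.map (MulAut.conj h).toMonoidHom
      simp only [MulEquiv.coe_toMonoidHom, MulAut.conj_apply] at h2
      rw [sh, D.h13, mul_one, mul_inv_cancel₀ hω] at h2
      rw [show s = s ^ 2 + 1 by rw [hω2]; linear_combination -h20, r12_add]
      exact h2.mul_left d1.1
  · rintro s (rfl | rfl)
    · exact d1.2.symm
    · have h2 := d2.2.symm.map (MulAut.conj h⁻¹).toMonoidHom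
      simp only [MulEquiv.coe_toMonoidHom, MulAut.conj_apply] at h2
      rw [D.h13.inv hω, D.h23.inv (inv_ne_zero hω), inv_inv, mul_inv_cancel₀ hω, hi2] at h2
      exact h2
  · have c2' : r12 f 1 * r23 f c ω⁻¹ = r13 f t c ω⁻¹ * r23 f c ω⁻¹ * r12 f 1 := by rw [← c2]; group
    rintro s (rfl | rfl)
    · rw [← c1]; group
    · have h2 := congrArg (fun g => h⁻¹ * g * h⁻¹⁻¹) c2'
      simp only [← conj_mul] at h2
      rw [sh.inv (pow_ne_zero 2 hω), D.h13.inv hω, D.h23.inv (inv_ne_zero hω), inv_inv (G := F),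
        mul_inv_cancel₀ hω, mul_one, hi2, ← inv_pow, pow_two, hi2] at h2
      exact h2
  · rw [r12, r12, ← hPz, ← hfw, show (aeval ω⁻¹ Pz)⁻¹ = aeval ω⁻¹ Pi by rw [hPz, hPi], ← hfw]
    exact hh

end four

end Cfsg.Agent.Lib.ShortPresSL3
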