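import Mathlib
import Cfsg.Agent.Lib.ShortPresSL2.Field
import Cfsg.Agent.Lib.ShortPresSL3.Surject

/-!
# `SL₃(q)` on four generators with fourteen relations
-/

set_option autoImplicit false

namespace Cfsg.Agent.Lib.ShortPresSL3

open Polynomial Subgroup Matrix
open ShortPresSL2 (polyWord)
open Schur.SteinbergSLn (trv trv_rel)

variable {F : Type*} [Field F]

local notation "SL₃" => Matrix.SpecialLinearGroup (Fin 3) F

/-- The Weyl element of the first root. -/
def matT : SL₃ := ⟨!![0, 1, 0; -1, 0, 0; 0, 0, 1], by simp [Matrix.det_fin_three]⟩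

/-- A lift of the three-cycle. -/
def matC : SL₃ := ⟨!![0, 0, 1; -1, 0, 0; 0, -1, 0], by simp [Matrix.det_fin_three]⟩

/-- Diagonal elements. -/
def matD (x y : Fˣ) : SL₃ :=
  ⟨!![(x : F), 0, 0; 0, y, 0; 0, 0, ((x * y)⁻¹ : Fˣ)], by
    simp [Matrix.det_fin_three, Units.val_inv_eq_inv_val]; field_simp⟩

theorem sl3_ext {A B : SL₃} (h : ∀ i j, A.1 i j = B.1 i j) : A = B := Subtype.ext (Matrix.ext h)

theorem trv_apply {i j : Fin 3} (h : i ≠ j) (a : F) (x y : Fin 3) :
    (trv 3 F i j a).1 x y = (if x = y then 1 else 0) + (if x = i ∧ y = j then a else 0) := by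
  simp only [trv, dif_pos h, Matrix.SpecialLinearGroup.transvection_coe]
  rw [Matrix.add_apply, Matrix.one_apply, Matrix.single_apply]
  congr 1
  simp only [eq_comm]

theorem matT_01 (a : F) : matT * trv 3 F 0 1 a * matT⁻¹ = trv 3 F 1 0 (-a) :=
  mul_inv_eq_iff_eq_mul.2 (by
    refine sl3_ext fun i j => ?_
    simp only [Matrix.SpecialLinearGroup.coe_mul, Matrix.mul_apply, Fin.sum_univ_three]
    fin_cases i <;> fin_cases j <;>
      simp [matT, matC, matD, trv_apply, Units.val_inv_eq_inv_val, mul_comm])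

theorem matT_12 (a : F) : matT * trv 3 F 1 2 a * matT⁻¹ = trv 3 F 0 2 a :=
  mul_inv_eq_iff_eq_mul.2 (by
    refine sl3_ext fun i j => ?_
    simp only [Matrix.SpecialLinearGroup.coe_mul, Matrix.mul_apply, Fin.sum_univ_three]
    fin_cases i <;> fin_cases j <;>
      simp [matT, matC, matD, trv_apply, Units.val_inv_eq_inv_val, mul_comm])

theorem matT_02 (a : F) : matT * trv 3 F 0 2 a * matT⁻¹ = trv 3 F 1 2 (-a) :=
  mul_inv_eq_iff_eq_mul.2 (by
    refine sl3_ext fun i j => ?_
    simp only [Matrix.SpecialLinearGroup.coe_mul, Matrix.mul_apply, Fin.sum_univ_three]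
    fin_cases i <;> fin_cases j <;>
      simp [matT, matC, matD, trv_apply, Units.val_inv_eq_inv_val, mul_comm])

theorem matC_01 (a : F) : matC * trv 3 F 0 1 a * matC⁻¹ = trv 3 F 1 2 a :=
  mul_inv_eq_iff_eq_mul.2 (by
    refine sl3_ext fun i j => ?_
    simp only [Matrix.SpecialLinearGroup.coe_mul, Matrix.mul_apply, Fin.sum_univ_three]
    fin_cases i <;> fin_cases j <;>
      simp [matT, matC, matD, trv_apply, Units.val_inv_eq_inv_val, mul_comm])

theorem matC_12 (a : F) : matC * trv 3 F 1 2 a * matC⁻¹ = trv 3 F 2 0 (-a) :=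
  mul_inv_eq_iff_eq_mul.2 (by
    refine sl3_ext fun i j => ?_
    simp only [Matrix.SpecialLinearGroup.coe_mul, Matrix.mul_apply, Fin.sum_univ_three]
    fin_cases i <;> fin_cases j <;>
      simp [matT, matC, matD, trv_apply, Units.val_inv_eq_inv_val, mul_comm])

theorem matC_10 (a : F) : matC * trv 3 F 1 0 a * matC⁻¹ = trv 3 F 2 1 a :=
  mul_inv_eq_iff_eq_mul.2 (by
    refine sl3_ext fun i j => ?_
    simp only [Matrix.SpecialLinearGroup.coe_mul, Matrix.mul_apply, Fin.sum_univ_three]
    fin_cases i <;> fin_cases j <;>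
      simp [matT, matC, matD, trv_apply, Units.val_inv_eq_inv_val, mul_comm])

theorem matC_21 (a : F) : matC * trv 3 F 2 1 a * matC⁻¹ = trv 3 F 0 2 (-a) :=
  mul_inv_eq_iff_eq_mul.2 (by
    refine sl3_ext fun i j => ?_
    simp only [Matrix.SpecialLinearGroup.coe_mul, Matrix.mul_apply, Fin.sum_univ_three]
    fin_cases i <;> fin_cases j <;>
      simp [matT, matC, matD, trv_apply, Units.val_inv_eq_inv_val, mul_comm])

theorem matC_02 (a : F) : matC * trv 3 F 0 2 a * matC⁻¹ = trv 3 F 1 0 (-a) :=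
  mul_inv_eq_iff_eq_mul.2 (by
    refine sl3_ext fun i j => ?_
    simp only [Matrix.SpecialLinearGroup.coe_mul, Matrix.mul_apply, Fin.sum_univ_three]
    fin_cases i <;> fin_cases j <;>
      simp [matT, matC, matD, trv_apply, Units.val_inv_eq_inv_val, mul_comm])

theorem matC_D (x y : Fˣ) : matC * matD x y * matC⁻¹ = matD (x * y)⁻¹ x :=
  mul_inv_eq_iff_eq_mul.2 (by
    refine sl3_ext fun i j => ?_
    simp only [Matrix.SpecialLinearGroup.coe_mul, Matrix.mul_apply, Fin.sum_univ_three]
    fin_cases i <;> fin_cases j <;>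
      simp [matT, matC, matD, trv_apply, Units.val_inv_eq_inv_val, mul_comm])

theorem matT_D (x y : Fˣ) : matT * matD x y * matT⁻¹ = matD y x :=
  mul_inv_eq_iff_eq_mul.2 (by
    refine sl3_ext fun i j => ?_
    simp only [Matrix.SpecialLinearGroup.coe_mul, Matrix.mul_apply, Fin.sum_univ_three]
    fin_cases i <;> fin_cases j <;>
      simp [matT, matC, matD, trv_apply, Units.val_inv_eq_inv_val, mul_comm])

theorem matD_mul (x y x' y' : Fˣ) : (matD x y : SL₃) * matD x' y' = matD (x * x') (y * y') := (by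
    refine sl3_ext fun i j => ?_
    simp only [Matrix.SpecialLinearGroup.coe_mul, Matrix.mul_apply, Fin.sum_univ_three]
    fin_cases i <;> fin_cases j <;>
      simp [matT, matC, matD, trv_apply, Units.val_inv_eq_inv_val, mul_comm, mul_assoc, mul_left_comm])

theorem matD_one : (matD 1 1 : SL₃) = 1 := (by
    refine sl3_ext fun i j => ?_
    fin_cases i <;> fin_cases j <;>
      simp [matT, matC, matD, trv_apply, Units.val_inv_eq_inv_val, mul_comm])

theorem matD_inv (x y : Fˣ) : (matD x y : SL₃)⁻¹ = matD x⁻¹ y⁻¹ :=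
  inv_eq_of_mul_eq_one_right (by rw [matD_mul, mul_inv_cancel, mul_inv_cancel, matD_one])

theorem matD_comm (x y x' y' : Fˣ) : Commute (matD x y : SL₃) (matD x' y') := by
  show _ * _ = _ * _
  rw [matD_mul, matD_mul, mul_comm x, mul_comm y]

theorem matD_01 (x y : Fˣ) (a : F) :
    matD x y * trv 3 F 0 1 a * (matD x y)⁻¹ = trv 3 F 0 1 ((x : F) * (y : F)⁻¹ * a) :=
  mul_inv_eq_iff_eq_mul.2 (by
    refine sl3_ext fun i j => ?_
    simp only [Matrix.SpecialLinearGroup.coe_mul, Matrix.mul_apply, Fin.sum_univ_three]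
    fin_cases i <;> fin_cases j <;> simp [matD, trv_apply, Units.val_inv_eq_inv_val]
    field_simp)

theorem matC_cube : (matC * matC * matC : SL₃) = 1 := (by
    refine sl3_ext fun i j => ?_
    simp only [Matrix.SpecialLinearGroup.coe_mul, Matrix.mul_apply, Fin.sum_univ_three]
    fin_cases i <;> fin_cases j <;>
      simp [matT, matC, matD, trv_apply, Units.val_inv_eq_inv_val, mul_comm])

theorem matTC : (matT * matC * matT * matC : SL₃) = 1 := (by
    refine sl3_ext fun i j => ?_
    simp only [Matrix.SpecialLinearGroup.coe_mul, Matrix.mul_apply, Fin.sum_univ_three]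
    fin_cases i <;> fin_cases j <;>
      simp [matT, matC, matD, trv_apply, Units.val_inv_eq_inv_val, mul_comm])

theorem trv01_inv (a : F) : (trv 3 F 0 1 a)⁻¹ = trv 3 F 0 1 (-a) :=
  (Schur.SteinbergSLn.x_neg (trv_rel 3) (by decide) a).symm

theorem braid : matT * trv 3 F 0 1 1 * matT⁻¹ = (trv 3 F 0 1 (1 : F))⁻¹ * matT * (trv 3 F 0 1 1)⁻¹ := by
  rw [trv01_inv]; exact mul_inv_eq_iff_eq_mul.2 (by
    refine sl3_ext fun i j => ?_
    simp only [Matrix.SpecialLinearGroup.coe_mul, Matrix.mul_apply, Fin.sum_univ_three]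
    fin_cases i <;> fin_cases j <;>
      simp [matT, matC, matD, trv_apply, Units.val_inv_eq_inv_val, mul_comm])

theorem weyl (w : Fˣ) : matD w w⁻¹ * matT =
    trv 3 F 0 1 (w : F) * trv 3 F 1 0 (-(w : F)⁻¹) * trv 3 F 0 1 (w : F) := (by
    refine sl3_ext fun i j => ?_
    simp only [Matrix.SpecialLinearGroup.coe_mul, Matrix.mul_apply, Fin.sum_univ_three]
    fin_cases i <;> fin_cases j <;>
      simp [matT, matC, matD, trv_apply, Units.val_inv_eq_inv_val, mul_comm])

theorem zElt_trv (a : F) : zElt (trv 3 F 0 1 a) matT matC = trv 3 F 0 2 a := by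
  rw [zElt, matT_01, ← matC_02 a]; group

/-- The transvections as a homomorphism. -/
def homU : Multiplicative F →* SL₃ :=
  MonoidHom.mk' (fun x => trv 3 F 0 1 x.toAdd) fun x y => (trv_rel 3).add 0 1 (by decide) _ _

theorem homU_ofAdd (x : F) : homU (Multiplicative.ofAdd x) = trv 3 F 0 1 x := rfl

variable {p : ℕ} [Fact p.Prime] [Algebra (ZMod p) F]

theorem polyWord_trv (α : F) (A : SL₃) (hA : ∀ x, A * trv 3 F 0 1 x * A⁻¹ = trv 3 F 0 1 (α * x))
    (P : (ZMod p)[X]) : polyWord (trv 3 F 0 1 1) A P = trv 3 F 0 1 (aeval α P) :=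
  ShortPresSL2.polyWord_eq α homU (u := trv 3 F 0 1 1) (a := A) rfl (fun r => (hA r).symm) P

/-- `U`, `H`, `T`, `C` generate. -/
theorem closure_eq_top [Finite F] {ω : Fˣ} (α : F) (A : SL₃)
    (hA : ∀ x, A * trv 3 F 0 1 x * A⁻¹ = trv 3 F 0 1 (α * x))
    (hAmem : A ∈ closure ({trv 3 F 0 1 1, matD ω ω⁻¹, matT, matC} : Set SL₃))
    (hsurj : Function.Surjective (aeval α : (ZMod p)[X] → F)) :
    closure ({trv 3 F 0 1 1, matD ω ω⁻¹, matT, matC} : Set SL₃) = ⊤ := by
  set K := closure ({trv 3 F 0 1 1, matD ω ω⁻¹, matT, matC} : Set SL₃) with hK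
  have hT : matT ∈ K := subset_closure (by simp)
  have hC : matC ∈ K := subset_closure (by simp)
  have h01 : ∀ x : F, trv 3 F 0 1 x ∈ K := fun x => by
    obtain ⟨P, rfl⟩ := hsurj x
    rw [← polyWord_trv α A hA]
    exact ShortPresSL2.polyWord_mem (subset_closure (by simp)) hAmem P
  have cj : ∀ (g x : SL₃), g ∈ K → x ∈ K → g * x * g⁻¹ ∈ K := fun g x hg hx =>
    K.mul_mem (K.mul_mem hg hx) (K.inv_mem hg)
  have h10 : ∀ x : F, trv 3 F 1 0 x ∈ K := fun x => by
    have := cj _ _ hT (h01 (-x)); rwa [matT_01, neg_neg] at this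
  have h12 : ∀ x : F, trv 3 F 1 2 x ∈ K := fun x => by
    have := cj _ _ hC (h01 x); rwa [matC_01] at this
  have h20 : ∀ x : F, trv 3 F 2 0 x ∈ K := fun x => by
    have := cj _ _ hC (h12 (-x)); rwa [matC_12, neg_neg] at this
  have h21 : ∀ x : F, trv 3 F 2 1 x ∈ K := fun x => by
    have := cj _ _ hC (h10 x); rwa [matC_10] at this
  have h02 : ∀ x : F, trv 3 F 0 2 x ∈ K := fun x => by
    have := cj _ _ hC (h21 (-x)); rwa [matC_21, neg_neg] at this
  refine Cfsg.Agent.Lib.Linear.sl_eq_top_of_transvection_mem _ fun i j hij x => ?_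
  have key : Matrix.SpecialLinearGroup.transvection hij x = trv 3 F i j x := by rw [trv, dif_pos hij]
  rw [key]
  fin_cases i <;> fin_cases j <;> first
    | exact absurd rfl hij
    | exact h01 x
    | exact h10 x
    | exact h12 x
    | exact h20 x
    | exact h21 x
    | exact h02 x

local notation "gU" => (FreeGroup.of 0 : FreeGroup (Fin 4))
local notation "gH" => (FreeGroup.of 1 : FreeGroup (Fin 4))
local notation "gT" => (FreeGroup.of 2 : FreeGroup (Fin 4))
local notation "gC" => (FreeGroup.of 3 : FreeGroup (Fin 4))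
local notation "gK" => (gC * gH * gC⁻¹)
local notation "gV" => (gC * gU * gC⁻¹)

theorem exists_fourteen [Fintype F] (p : ℕ) [Fact p.Prime] [Algebra (ZMod p) F] :
    ∃ rels : Finset (FreeGroup (Fin 4)), rels.card ≤ 14 ∧
      Nonempty (PresentedGroup (↑rels : Set (FreeGroup (Fin 4))) ≃* SL₃) := by
  classical
  haveI : CharP F p := charP_of_injective_algebraMap (algebraMap (ZMod p) F).injective p
  obtain ⟨e, -, he⟩ := FiniteField.card F p
  set q := Fintype.card F with hq
  obtain ⟨ω, hωg⟩ := IsCyclic.exists_generator (α := Fˣ)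
  have hgen : ∀ b : F, b ≠ 0 → ∃ m : ℕ, (ω : F) ^ m = b := fun b hb => by
    obtain ⟨m, hm⟩ := mem_powers_iff_mem_zpowers.2 (hωg (Units.mk0 b hb))
    exact ⟨m, by rw [← Units.val_pow_eq_pow_val]; simpa using congrArg Units.val hm⟩
  have hord : orderOf ω = q - 1 := by
    rw [orderOf_eq_card_of_forall_mem_zpowers hωg, Nat.card_units, Nat.card_eq_fintype_card]
  have hq2 : 2 ≤ q := Fintype.one_lt_card
  by_cases h4 : q = 4
  · -- four elements
    obtain rfl : p = 2 := by
      have : p ∣ 2 ^ 2 := by rw [show (2:ℕ) ^ 2 = q by rw [h4]; norm_num, he]; exact dvd_pow_self p e.ne_zero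
      exact (Nat.prime_dvd_prime_iff_eq Fact.out Nat.prime_two).1 ((Fact.out : p.Prime).dvd_of_dvd_pow this)
    have he2 : (e : ℕ) = 2 := Nat.pow_right_injective le_rfl (by
      show 2 ^ (e : ℕ) = 2 ^ 2
      rw [← he, h4])
    have hω3 : (ω : F) ^ 3 = 1 := by
      have := FiniteField.pow_card_sub_one_eq_one (ω : F) ω.ne_zero
      rwa [← hq, h4] at this
    have hω1 : (ω : F) ≠ 1 := fun h => by
      have : orderOf ω = 1 := orderOf_eq_one_iff.2 (Units.ext h)
      omega
    have h20 : (1 : F) + 1 = 0 := CharTwo.add_self_eq_zero 1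
    have hω2 : (ω : F) ^ 2 = ω + 1 := by
      refine mul_left_cancel₀ (sub_ne_zero.2 hω1) ?_
      linear_combination hω3 + (1 - (ω : F) ^ 2) * h20
    set α : F := (ω : F)⁻¹ with hα
    have hsurj : Function.Surjective (aeval α : (ZMod 2)[X] → F) := by
      refine ShortPresSL2.surjective_aeval_of_finrank _ he fun d hd1 hd2 hc => hω1 ?_
      obtain rfl : d = 1 := by omega
      rw [pow_one, pow_two, hα] at hc
      exact inv_eq_one.1 ((mul_eq_left₀ (inv_ne_zero ω.ne_zero)).1 hc)
    have hdeg : (minpoly (ZMod 2) α).natDegree ≤ 2 := by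
      refine (minpoly.natDegree_le _).trans (le_of_eq (Nat.pow_right_injective le_rfl ?_))
      show 2 ^ Module.finrank (ZMod 2) F = 2 ^ 2
      have := Module.card_eq_pow_finrank (K := ZMod 2) (V := F)
      rw [ZMod.card] at this
      rw [← this, ← hq, h4]
    obtain ⟨Pz, hPz⟩ := hsurj (ω : F)
    obtain ⟨Pi, hPi⟩ := hsurj (ω : F)⁻¹
    let gW : FreeGroup (Fin 4) := gK * gU * gK⁻¹
    let l : List (FreeGroup (Fin 4)) :=
      [gC * gC * gC, gT * gC * gT * gC, gT * gU * gT⁻¹ * (gU⁻¹ * gT * gU⁻¹)⁻¹, gU ^ 2,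
        polyWord gU gK (minpoly (ZMod 2) α),
        gH * gK * gK * gU * (gU * (gH * gK * gK))⁻¹,
        gH * (polyWord gU gK Pz * (gT * polyWord gU gK Pi * gT⁻¹) * polyWord gU gK Pz * gT⁻¹)⁻¹,
        gU * gV * gU⁻¹ * gV⁻¹ * (zElt gU gT gC)⁻¹,
        gU * (gC * gW * gC⁻¹) * gU⁻¹ * (gC * gW * gC⁻¹)⁻¹ * (zElt gW gT gC)⁻¹,
        gU * gW * (gW * gU)⁻¹, gT * gH * gT⁻¹ * gH, gH * gK * (gK * gH)⁻¹, gH * gK * (gC⁻¹ * gH * gC)]
    refine ⟨l.toFinset, (List.toFinset_card_le _).trans (by simp [l]), ?_⟩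
    let gg : Fin 4 → SL₃ := ![trv 3 F 0 1 1, matD ω ω⁻¹, matT, matC]
    have hK' : FreeGroup.lift gg gK = matD 1 ω := by
      simp [gg, matC_D]
    have hA : ∀ x, (matD 1 ω : SL₃) * trv 3 F 0 1 x * (matD 1 ω)⁻¹ = trv 3 F 0 1 (α * x) := fun x => by
      rw [matD_01, Units.val_one, one_mul, hα]
    have hrel : ∀ r ∈ (↑l.toFinset : Set (FreeGroup (Fin 4))), FreeGroup.lift gg r = 1 := by
      intro r hr
      simp only [l, List.coe_toFinset, List.mem_cons, List.not_mem_nil, or_false] at hr
      have e0 : FreeGroup.lift gg gU = trv 3 F 0 1 1 := by simp [gg]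
      have e1 : FreeGroup.lift gg gH = matD ω ω⁻¹ := by simp [gg]
      have e2 : FreeGroup.lift gg gT = matT := by simp [gg]
      have e3 : FreeGroup.lift gg gC = matC := by simp [gg]
      have eW : FreeGroup.lift gg gW = trv 3 F 0 1 α := by
        rw [map_mul, map_mul, map_inv, hK', e0, hA, mul_one]
      have ez : ∀ g, FreeGroup.lift gg (zElt g gT gC) = zElt (FreeGroup.lift gg g) matT matC := fun g => by
        simp [zElt, e2, e3]
      rcases hr with rfl | rfl | rfl | rfl | rfl | rfl | rfl | rfl | rfl | rfl | rfl | rfl | rfl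
      · rw [map_mul, map_mul, e3, matC_cube]
      · rw [map_mul, map_mul, map_mul, e2, e3, matTC]
      · rw [map_mul, map_inv, mul_inv_eq_one, map_mul, map_mul, map_mul, map_mul, map_inv, map_inv, e0,
          e2, braid]
      · rw [map_pow, e0, pow_two, ← (trv_rel 3).add 0 1 (by decide), h20,
          Schur.SteinbergSLn.x_zero (trv_rel 3) (by decide)]
      · rw [ShortPresSL2.map_polyWord, hK', e0, polyWord_trv α _ hA, minpoly.aeval,
          Schur.SteinbergSLn.x_zero (trv_rel 3) (by decide)]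
      · rw [map_mul, map_inv, mul_inv_eq_one]
        simp only [map_mul, hK', e0, e1]
        rw [matD_mul, matD_mul, ← mul_inv_eq_iff_eq_mul, matD_01]
        congr 1
        simp only [Units.val_mul, Units.val_one, mul_one, Units.val_inv_eq_inv_val]
        field_simp
      · rw [map_mul, map_inv, mul_inv_eq_one]
        simp only [map_mul, map_inv, ShortPresSL2.map_polyWord, hK', e0, e1, e2, polyWord_trv α _ hA,
          hPz, hPi, matT_01, ← weyl]
        rw [mul_inv_cancel_right]
      · simp only [map_mul, map_inv, e0, e3, ez, zElt_trv, matC_01]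
        rw [mul_inv_eq_one, mul_inv_eq_iff_eq_mul, mul_inv_eq_iff_eq_mul,
          (trv_rel 3).chain 0 1 2 (by decide) (by decide) (by decide), one_mul]
      · simp only [map_mul, map_inv, e0, e3, eW, ez, zElt_trv, matC_01]
        rw [mul_inv_eq_one, mul_inv_eq_iff_eq_mul, mul_inv_eq_iff_eq_mul,
          (trv_rel 3).chain 0 1 2 (by decide) (by decide) (by decide), one_mul]
      · rw [map_mul, map_inv, mul_inv_eq_one, map_mul (FreeGroup.lift gg) gU gW, map_mul (FreeGroup.lift gg) gW gU,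
          eW, e0]
        exact (trv_rel 3).comm _ _ _ _ (by decide) (by decide) (by decide) (by decide) _ _
      · simp only [map_mul, map_inv, e1, e2, matT_D]
        rw [matD_mul, inv_mul_cancel, mul_inv_cancel, matD_one]
      · rw [map_mul, map_inv, mul_inv_eq_one, map_mul (FreeGroup.lift gg) gH gK, map_mul (FreeGroup.lift gg) gK gH,
          hK', e1]
        exact matD_comm _ _ _ _
      · have eg : matC⁻¹ * matD ω ω⁻¹ * matC = (matD ω⁻¹ 1 : SL₃) := by
          rw [show (matD ω ω⁻¹ : SL₃) = matC * matD ω⁻¹ 1 * matC⁻¹ by rw [matC_D, mul_one, inv_inv]]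
          group
        simp only [map_mul, map_inv, hK', e1, e3, eg]
        rw [matD_mul, matD_mul, mul_one, mul_one, mul_inv_cancel, inv_mul_cancel, matD_one]
    -- the presented group
    set π := PresentedGroup.mk (↑l.toFinset : Set (FreeGroup (Fin 4))) with hπ
    have hr : ∀ r ∈ l, π r = 1 := fun r hr => PresentedGroup.one_of_mem (by simpa using hr)
    have heq : ∀ a b, a * b⁻¹ ∈ l → π a = π b := fun a b hab => by
      have := hr _ hab
      rwa [map_mul, map_inv, mul_inv_eq_one] at this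
    have T : Torus (π gH) (π gT) (π gC) :=
      ⟨by simpa using hr (gC * gC * gC) (by simp [l]), by simpa using hr (gT * gC * gT * gC) (by simp [l]),
        eq_inv_of_mul_eq_one_left (by simpa using hr (gT * gH * gT⁻¹ * gH) (by simp [l])),
        by simpa [Commute, SemiconjBy] using heq (gH * gK) (gK * gH) (by simp [l]),
        by simpa using hr (gH * gK * (gC⁻¹ * gH * gC)) (by simp [l])⟩
    have hgenG : closure ({π gU, π gH, π gT, π gC} : Set _) = ⊤ := by
      rw [eq_top_iff, ← PresentedGroup.closure_range_of (↑l.toFinset : Set (FreeGroup (Fin 4)))]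
      refine closure_mono ?_
      rintro _ ⟨i, rfl⟩
      fin_cases i
      exacts [Or.inl rfl, Or.inr (Or.inl rfl), Or.inr (Or.inr (Or.inl rfl)), Or.inr (Or.inr (Or.inr rfl))]
    obtain ⟨φ, hφ⟩ := exists_surjection_four (u := π gU) (Pz := Pz) (Pi := Pi) T ω.ne_zero hgen hω2 hsurj hdeg
      ((map_pow π gU 2).symm.trans (hr _ (by simp [l])))
      (by simpa using heq (gT * gU * gT⁻¹) (gU⁻¹ * gT * gU⁻¹) (by simp [l]))
      (by simpa [ShortPresSL2.map_polyWord] using hr (polyWord gU gK (minpoly (ZMod 2) α)) (by simp [l]))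
      (by simpa [Commute, SemiconjBy] using heq (gH * gK * gK * gU) (gU * (gH * gK * gK)) (by simp [l]))
      hPz hPi
      (by simpa [ShortPresSL2.map_polyWord] using heq gH (polyWord gU gK Pz * (gT * polyWord gU gK Pi * gT⁻¹) * polyWord gU gK Pz * gT⁻¹) (by simp [l]))
      (by simpa [Commute, SemiconjBy, gW] using heq (gU * gW) (gW * gU) (by simp [l]))
      (by simpa [zElt] using heq (gU * gV * gU⁻¹ * gV⁻¹) (zElt gU gT gC) (by simp [l]))
      (by simpa [zElt, gW] using heq (gU * (gC * gW * gC⁻¹) * gU⁻¹ * (gC * gW * gC⁻¹)⁻¹) (zElt gW gT gC) (by simp [l]))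
      hgenG
    exact finish gg hrel φ hφ (closure_eq_top (p := 2) α (matD 1 ω) hA (by
      rw [← hK']
      simp only [map_mul, map_inv, gg, FreeGroup.lift_apply_of]
      exact mul_mem (mul_mem (subset_closure (by simp)) (subset_closure (by simp)))
        (inv_mem (subset_closure (by simp)))) hsurj)
  · -- the general case
    set α : F := (ω : F) ^ 3 with hα
    have hsurj : Function.Surjective (aeval α : (ZMod p)[X] → F) := by
      refine ShortPresSL2.surjective_aeval_of_finrank _ he fun d hd1 hd2 hc => ?_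
      have hp2 : 2 ≤ p := (Fact.out : p.Prime).two_le
      have hP2 : 2 ≤ p ^ d := hp2.trans (Nat.le_self_pow (by omega) p)
      have hPq : p ^ d * p ^ d ≤ q := by
        rw [he, ← pow_add]; exact Nat.pow_le_pow_right (by omega) (by omega)
      have h1 : ω ^ (3 * (p ^ d - 1)) = 1 := Units.ext (by
        rw [Units.val_pow_eq_pow_val, Units.val_one]
        refine mul_right_cancel₀ (pow_ne_zero 3 ω.ne_zero) ?_
        rw [one_mul, pow_mul, ← pow_succ, Nat.sub_add_cancel (by omega), ← hα, hc])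
      have := Nat.le_of_dvd (by omega) (hord ▸ orderOf_dvd_of_pow_eq_one h1)
      obtain ⟨P, hP⟩ : ∃ P, p ^ d = P + 2 := ⟨p ^ d - 2, by omega⟩
      rw [hP] at hPq this
      have : P = 0 := by
        rw [show P + 2 - 1 = P + 1 by omega] at this
        nlinarith [show q ≤ 3 * (P + 1) + 1 by omega]
      subst this
      omega
    obtain ⟨Pk, hPk⟩ := hsurj (ω : F)⁻¹
    obtain ⟨Pz, hPz⟩ := hsurj (ω : F)
    let gA : FreeGroup (Fin 4) := gH * gK⁻¹
    let l : List (FreeGroup (Fin 4)) :=
      [gC * gC * gC, gT * gC * gT * gC, gT * gU * gT⁻¹ * (gU⁻¹ * gT * gU⁻¹)⁻¹, gU ^ p,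
        polyWord gU gA (minpoly (ZMod p) α),
        gH * gK * gK * gU * (gU * (gH * gK * gK))⁻¹,
        gK * gU * gK⁻¹ * (polyWord gU gA Pk)⁻¹,
        gH * (polyWord gU gA Pz * (gT * polyWord gU gA Pk * gT⁻¹) * polyWord gU gA Pz * gT⁻¹)⁻¹,
        gU * zElt gU gT gC * (zElt gU gT gC * gU)⁻¹,
        gU * gV * gU⁻¹ * gV⁻¹ * (zElt gU gT gC)⁻¹,
        gT * gH * gT⁻¹ * gH, gH * gK * (gK * gH)⁻¹, gH * gK * (gC⁻¹ * gH * gC),
        gT * gT * gV * (gT * gT)⁻¹ * gV]
    refine ⟨l.toFinset, (List.toFinset_card_le _).trans (by simp [l]), ?_⟩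
    let gg : Fin 4 → SL₃ := ![trv 3 F 0 1 1, matD ω ω⁻¹, matT, matC]
    have hK' : FreeGroup.lift gg gK = matD 1 ω := by
      simp [gg, matC_D]
    have hA' : FreeGroup.lift gg gA = matD ω (ω⁻¹ * ω⁻¹) := by
      rw [map_mul, map_inv, hK', matD_inv, show FreeGroup.lift gg gH = matD ω ω⁻¹ by simp [gg], matD_mul,
        inv_one, mul_one]
    have hA : ∀ x, (matD ω (ω⁻¹ * ω⁻¹) : SL₃) * trv 3 F 0 1 x * (matD ω (ω⁻¹ * ω⁻¹))⁻¹ =
        trv 3 F 0 1 (α * x) := fun x => by
      rw [matD_01, hα, Units.val_mul, Units.val_inv_eq_inv_val]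
      congr 1
      field_simp
    have hrel : ∀ r ∈ (↑l.toFinset : Set (FreeGroup (Fin 4))), FreeGroup.lift gg r = 1 := by
      intro r hr
      simp only [l, List.coe_toFinset, List.mem_cons, List.not_mem_nil, or_false] at hr
      have e0 : FreeGroup.lift gg gU = trv 3 F 0 1 1 := by simp [gg]
      have e1 : FreeGroup.lift gg gH = matD ω ω⁻¹ := by simp [gg]
      have e2 : FreeGroup.lift gg gT = matT := by simp [gg]
      have e3 : FreeGroup.lift gg gC = matC := by simp [gg]
      have ez : FreeGroup.lift gg (zElt gU gT gC) = trv 3 F 0 2 1 := by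
        rw [← zElt_trv]; simp [zElt, e0, e2, e3]
      rcases hr with rfl | rfl | rfl | rfl | rfl | rfl | rfl | rfl | rfl | rfl | rfl | rfl | rfl | rfl
      · rw [map_mul, map_mul, e3, matC_cube]
      · rw [map_mul, map_mul, map_mul, e2, e3, matTC]
      · rw [map_mul, map_inv, mul_inv_eq_one, map_mul, map_mul, map_mul, map_mul, map_inv, map_inv, e0,
          e2, braid]
      · rw [map_pow, e0, ← homU_ofAdd, ← map_pow, ← ofAdd_nsmul, nsmul_one, CharP.cast_eq_zero,
          ofAdd_zero, map_one]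
      · rw [ShortPresSL2.map_polyWord, hA', e0, polyWord_trv α _ hA, minpoly.aeval,
          Schur.SteinbergSLn.x_zero (trv_rel 3) (by decide)]
      · rw [map_mul, map_inv, mul_inv_eq_one]
        simp only [map_mul, hK', e0, e1]
        rw [matD_mul, matD_mul, ← mul_inv_eq_iff_eq_mul, matD_01]
        congr 1
        simp only [Units.val_mul, Units.val_one, mul_one, Units.val_inv_eq_inv_val]
        field_simp
      · rw [map_mul, map_inv, mul_inv_eq_one]
        simp only [map_mul, map_inv, ShortPresSL2.map_polyWord, hK', hA', e0, polyWord_trv α _ hA, hPk,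
          matD_01, Units.val_one, one_mul, mul_one]
      · rw [map_mul, map_inv, mul_inv_eq_one]
        simp only [map_mul, map_inv, ShortPresSL2.map_polyWord, hA', e0, e1, e2, polyWord_trv α _ hA,
          hPz, hPk, matT_01, ← weyl]
        rw [mul_inv_cancel_right]
      · rw [map_mul, map_inv, mul_inv_eq_one, map_mul, map_mul, ez, e0]
        exact (trv_rel 3).comm _ _ _ _ (by decide) (by decide) (by decide) (by decide) _ _
      · simp only [map_mul, map_inv, e0, e3, ez, matC_01]
        rw [mul_inv_eq_one, mul_inv_eq_iff_eq_mul, mul_inv_eq_iff_eq_mul,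
          (trv_rel 3).chain 0 1 2 (by decide) (by decide) (by decide), one_mul]
      · simp only [map_mul, map_inv, e1, e2, matT_D]
        rw [matD_mul, inv_mul_cancel, mul_inv_cancel, matD_one]
      · rw [map_mul, map_inv, mul_inv_eq_one, map_mul (FreeGroup.lift gg) gH gK, map_mul (FreeGroup.lift gg) gK gH,
          hK', e1]
        exact matD_comm _ _ _ _
      · have eg : matC⁻¹ * matD ω ω⁻¹ * matC = (matD ω⁻¹ 1 : SL₃) := by
          rw [show (matD ω ω⁻¹ : SL₃) = matC * matD ω⁻¹ 1 * matC⁻¹ by rw [matC_D, mul_one, inv_inv]]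
          group
        simp only [map_mul, map_inv, hK', e1, e3, eg]
        rw [matD_mul, matD_mul, mul_one, mul_one, mul_inv_cancel, inv_mul_cancel, matD_one]
      · simp only [map_mul, map_inv, e0, e2, e3, matC_01]
        rw [show matT * matT * trv 3 F 1 2 (1 : F) * (matT * matT)⁻¹ =
            matT * (matT * trv 3 F 1 2 (1 : F) * matT⁻¹) * matT⁻¹ by group, matT_12, matT_02,
          ← (trv_rel 3).add 1 2 (by decide), neg_add_cancel,
          Schur.SteinbergSLn.x_zero (trv_rel 3) (by decide)]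
    -- the presented group
    set π := PresentedGroup.mk (↑l.toFinset : Set (FreeGroup (Fin 4))) with hπ
    have hr : ∀ r ∈ l, π r = 1 := fun r hr => PresentedGroup.one_of_mem (by simpa using hr)
    have heq : ∀ a b, a * b⁻¹ ∈ l → π a = π b := fun a b hab => by
      have := hr _ hab
      rwa [map_mul, map_inv, mul_inv_eq_one] at this
    have T : Torus (π gH) (π gT) (π gC) :=
      ⟨by simpa using hr (gC * gC * gC) (by simp [l]), by simpa using hr (gT * gC * gT * gC) (by simp [l]),
        eq_inv_of_mul_eq_one_left (by simpa using hr (gT * gH * gT⁻¹ * gH) (by simp [l])),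
        by simpa [Commute, SemiconjBy] using heq (gH * gK) (gK * gH) (by simp [l]),
        by simpa using hr (gH * gK * (gC⁻¹ * gH * gC)) (by simp [l])⟩
    have hgenG : closure ({π gU, π gH, π gT, π gC} : Set _) = ⊤ := by
      rw [eq_top_iff, ← PresentedGroup.closure_range_of (↑l.toFinset : Set (FreeGroup (Fin 4)))]
      refine closure_mono ?_
      rintro _ ⟨i, rfl⟩
      fin_cases i
      exacts [Or.inl rfl, Or.inr (Or.inl rfl), Or.inr (Or.inr (Or.inl rfl)), Or.inr (Or.inr (Or.inr rfl))]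
    obtain ⟨φ, hφ⟩ := exists_surjection_generic (u := π gU) (Pk := Pk) (Pz := Pz) (Pi := Pk) T ω.ne_zero hgen
      hsurj ((map_pow π gU p).symm.trans (hr _ (by simp [l])))
      (by simpa using heq (gT * gU * gT⁻¹) (gU⁻¹ * gT * gU⁻¹) (by simp [l]))
      (by simpa [ShortPresSL2.map_polyWord, gA] using hr (polyWord gU gA (minpoly (ZMod p) α)) (by simp [l]))
      (by simpa [Commute, SemiconjBy] using heq (gH * gK * gK * gU) (gU * (gH * gK * gK)) (by simp [l]))
      hPk hPz hPk
      (by simpa [ShortPresSL2.map_polyWord, gA] using heq (gK * gU * gK⁻¹) (polyWord gU gA Pk) (by simp [l]))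
      (by simpa [ShortPresSL2.map_polyWord, gA] using heq gH (polyWord gU gA Pz * (gT * polyWord gU gA Pk * gT⁻¹) * polyWord gU gA Pz * gT⁻¹) (by simp [l]))
      (by simpa [Commute, SemiconjBy, zElt] using heq (gU * zElt gU gT gC) (zElt gU gT gC * gU) (by simp [l]))
      (by simpa [zElt] using heq (gU * gV * gU⁻¹ * gV⁻¹) (zElt gU gT gC) (by simp [l]))
      (eq_inv_of_mul_eq_one_left (by simpa using hr (gT * gT * gV * (gT * gT)⁻¹ * gV) (by simp [l])))
      hgenG
    exact finish gg hrel φ hφ (closure_eq_top (p := p) α (matD ω (ω⁻¹ * ω⁻¹)) hA (by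
      rw [← hA']
      simp only [gA, map_mul, map_inv, gg, FreeGroup.lift_apply_of]
      exact mul_mem (subset_closure (by simp)) (inv_mem (mul_mem (mul_mem (subset_closure (by simp))
        (subset_closure (by simp))) (inv_mem (subset_closure (by simp)))))) hsurj)
where
  finish {rels : Set (FreeGroup (Fin 4))} (gg : Fin 4 → SL₃) (hrel : ∀ r ∈ rels, FreeGroup.lift gg r = 1)
      (φ : SL₃ →* PresentedGroup rels) (hφ : Function.Surjective φ)
      (hgen : closure ({gg 0, gg 1, gg 2, gg 3} : Set SL₃) = ⊤) :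
      Nonempty (PresentedGroup rels ≃* SL₃) := by
    haveI : Finite (PresentedGroup rels) := Finite.of_surjective φ hφ
    let ρ := PresentedGroup.toGroup hrel
    have hs : Function.Surjective ρ := by
      rw [← MonoidHom.range_eq_top, eq_top_iff, ← hgen, closure_le]
      have : ∀ i, gg i ∈ ρ.range := fun i => ⟨PresentedGroup.of i, PresentedGroup.toGroup.of hrel⟩
      rintro x (rfl | rfl | rfl | rfl) <;> exact this _
    exact ⟨MulEquiv.ofBijective ρ ((Nat.bijective_iff_surjective_and_card ρ).2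
      ⟨hs, le_antisymm (Nat.card_le_card_of_surjective φ hφ) (Nat.card_le_card_of_surjective ρ hs)⟩)⟩

end Cfsg.Agent.Lib.ShortPresSL3
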